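import Mathlib
import Cfsg.Prelude.Def_Blocks
import Cfsg.Agent.Lib.CycBS.Excl3
import Cfsg.Agent.Lib.Dade.DU
import Cfsg.Agent.S4652
import Cfsg.Agent.Lib.Blocks.PrincipalNil
import Cfsg.Agent.Lib.Blocks.Pairs21

/-!
# The case when all nonidentity powers of `x` are conjugate: the tools

Dade's theorem for the principal block, the values of the nonexceptional characters, and the numerical identities.
-/

set_option autoImplicit false
set_option linter.unusedSectionVars false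
set_option linter.style.haveILetI false

namespace Cfsg.Agent.Lib.CycBS

open Cfsg Subgroup
open Cfsg.Agent.Lib.Blocks.Sections Cfsg.Agent.Lib.Blocks.Principal Cfsg.Agent.Lib.Blocks.PrincipalCen
open scoped ComplexConjugate

universe u

section Index

variable {G : Type u} [Group G] [Finite G] {p : ℕ} [hp : Fact p.Prime]

/-- The inertial index is at least `p - 1`, when all nonidentity powers of `x` are conjugate. -/
theorem relIndex_ge (P : Sylow p G) (hc : IsCyclic (P : Subgroup G)) {x : G} (hx : orderOf x = p)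
    (hxP : x ∈ (P : Subgroup G)) (hconj : ∀ u ∈ zpowers x, u ≠ 1 → IsConj u x) :
    p - 1 ≤ (centralizer ((P : Subgroup G) : Set G)).relIndex (normalizer ((P : Subgroup G) : Set G)) := by
  classical
  letI : Fintype (zpowers x) := Fintype.ofFinite _
  haveI : IsMulCommutative (P : Subgroup G) := IsCyclic.isMulCommutative
  have hAP : zpowers x ≤ (P : Subgroup G) := zpowers_le.2 hxP
  set N := normalizer ((P : Subgroup G) : Set G) with hN
  set C := centralizer ((P : Subgroup G) : Set G) with hC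
  have hex : ∀ u : {u : zpowers x // u ≠ 1}, ∃ n : N, (n : G)⁻¹ * x * n = (u.1 : G) := by
    rintro ⟨u, hu⟩
    have hu1 : (u : G) ≠ 1 := fun h => hu (Subtype.ext h)
    obtain ⟨g, hg⟩ := isConj_iff.1 (hconj u u.2 hu1).symm
    have h1 : g * x * g⁻¹ = (u : G) := hg
    have h2 : (g⁻¹)⁻¹ * x * g⁻¹ ∈ (P : Subgroup G) := by
      rw [inv_inv, h1]
      exact hAP u.2
    obtain ⟨n, hn, h3⟩ := Sylow.conj_eq_normalizer_conj_of_mem P x g⁻¹ hxP h2
    exact ⟨⟨n, hn⟩, by rw [← h3, inv_inv, h1]⟩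
  choose n hn using hex
  let f : {u : zpowers x // u ≠ 1} → (N ⧸ C.subgroupOf N) := fun u => QuotientGroup.mk (n u)
  have hf : Function.Injective f := by
    intro u u' h
    have h1 : (n u)⁻¹ * n u' ∈ C.subgroupOf N := QuotientGroup.eq.1 h
    have h2 : ((n u : G))⁻¹ * (n u' : G) ∈ C := Subgroup.mem_subgroupOf.1 h1
    set z : G := ((n u : G))⁻¹ * (n u' : G) with hz
    have h3 : (n u' : G) = (n u : G) * z := by rw [hz]; group
    have h4 : ((u'.1 : G)) = z⁻¹ * (u.1 : G) * z := by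
      rw [← hn u', ← hn u, h3]
      group
    have h5 : (u.1 : G) * z = z * (u.1 : G) := (mem_centralizer_iff.1 h2) _ (hAP u.1.2)
    have h6 : ((u'.1 : G)) = (u.1 : G) := by
      rw [h4, mul_assoc, h5]
      group
    exact Subtype.ext (Subtype.ext h6.symm)
  have hcard : Nat.card {u : zpowers x // u ≠ 1} = p - 1 := by
    rw [Nat.card_eq_fintype_card, Fintype.card_subtype_compl, Fintype.card_subtype_eq, ← Nat.card_eq_fintype_card,
      Nat.card_zpowers, hx]
  rw [← hcard]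
  exact Nat.card_le_card_of_injective f hf

end Index

section Dade

variable {G : Type u} [Group G] [Fintype G] {M : Ideal AlgInt} [hMp : M.IsPrime] {p : ℕ} [hp : Fact p.Prime]

/-- Dade's theorem for the principal block of a group with cyclic Sylow `p`-subgroups. -/
theorem dade_principal (hM : IsPModular p M) (P : Sylow p G) (hc : IsCyclic (P : Subgroup G)) {a : ℕ} (ha : 1 ≤ a)
    (hcard : Nat.card P = p ^ a) {e : ℕ}
    (he : (centralizer ((P : Subgroup G) : Set G)).relIndex (normalizer ((P : Subgroup G) : Set G)) = e) :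
    e ∣ p - 1 ∧ blockRank p (principalBlock M G) = e ∧
    ∃ (r₀ : ℕ) (X Y : Finset (IrrCharacter G)), r₀ * e = p ^ a - 1 ∧
      (∀ χ, χ ∈ principalBlock M G ↔ χ ∈ X ∨ χ ∈ Y) ∧ Disjoint X Y ∧
      X.card = e ∧ Y.card = r₀ ∧
      (∀ ψ ∈ Y, ∀ ψ' ∈ Y, ∀ g : G, ¬ p ∣ orderOf g → (ψ : G → ℂ) g = (ψ' : G → ℂ) g) ∧
      ∃ (δ : IrrCharacter G → ℤ) (δ₀ : ℤ), (∀ χ ∈ X, δ χ = 1 ∨ δ χ = -1) ∧ (δ₀ = 1 ∨ δ₀ = -1) ∧
        (∀ ψ ∈ Y, ∀ g : G, ¬ p ∣ orderOf g → (δ₀ : ℂ) * (ψ : G → ℂ) g + ∑ χ ∈ X, (δ χ : ℂ) * (χ : G → ℂ) g = 0) := by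
  classical
  have hB := isPBlock_principalBlock (G := G) M
  have hBD : IsDefectGroup p M (principalBlock M G) (P : Subgroup G) :=
    (Cfsg.Agent.S4652.result p M hM _).2 ⟨P, rfl⟩
  have hb : IsPBlock M (principalBlock M (centralizer ((P : Subgroup G) : Set G))) := isPBlock_principalBlock M
  have hpair : IsBrauerPairOf p M (principalBlock M G) (P : Subgroup G)
      (principalBlock M (centralizer ((P : Subgroup G) : Set G))) :=
    (Cfsg.Agent.Lib.Blocks.Pairs.isBrauerPairOf_principal_iff hM P.isPGroup' hb).2 rfl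
  have hind := Cfsg.Agent.Lib.Blocks.Pairs.isInducedBlock_of_brauerPair hM hpair
  have hT : ∀ g : G, g ∈ normalizer ((P : Subgroup G) : Set G) ↔ g ∈ normalizer ((P : Subgroup G) : Set G) ∧
      StabilizesBlock (centralizer ((P : Subgroup G) : Set G))
        (principalBlock M (centralizer ((P : Subgroup G) : Set G))) g := by
    intro g
    constructor
    · intro h
      exact ⟨h, Cfsg.Agent.Lib.Blocks.PrincipalNil.stabilizesBlock_principalBlock
        (Cfsg.Agent.Lib.Blocks.Pairs.normalizer_le_normalizer_centralizer _ h)⟩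
    · exact fun h => h.1
  obtain ⟨h1, h2, -, r₀, X, Y, hr, hXY, hdisj, hXc, hYc, hreg, δ, δ₀, hδ, hδ₀, hsum, -, -⟩ :=
    Cfsg.Agent.Lib.Dade.cyclic_main hM hc ha hcard hB hBD hind hT he
  exact ⟨h1, h2, r₀, X, Y, hr, hXY, hdisj, hXc, hYc, hreg, δ, δ₀, hδ, hδ₀, hsum⟩

/-- Linear independence of the nonexceptional characters on the `p`-regular elements. -/
theorem indep_X {X Y : Finset (IrrCharacter G)} (hXY : ∀ χ, χ ∈ principalBlock M G ↔ χ ∈ X ∨ χ ∈ Y)
    (hrank : blockRank p (principalBlock M G) = X.card) {δ : IrrCharacter G → ℤ} {δ₀ : ℤ} (hδ₀ : δ₀ = 1 ∨ δ₀ = -1)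
    (hsum : ∀ ψ ∈ Y, ∀ g : G, ¬ p ∣ orderOf g → (δ₀ : ℂ) * (ψ : G → ℂ) g + ∑ χ ∈ X, (δ χ : ℂ) * (χ : G → ℂ) g = 0)
    (β : IrrCharacter G → ℂ) (hβ : ∀ g : G, ¬ p ∣ orderOf g → ∑ χ ∈ X, β χ * (χ : G → ℂ) g = 0) :
    ∀ χ ∈ X, β χ = 0 := by
  classical
  have hδ₀2 : (δ₀ : ℂ) * (δ₀ : ℂ) = 1 := by
    rcases hδ₀ with h | h <;> rw [h] <;> norm_num
  let b : X → (G → ℂ) := fun χ => pRegularPart p ((χ : IrrCharacter G) : G → ℂ)
  have hreg : ∀ (f : G → ℂ) (g : G), pRegularPart p f g = if IsPRegular p g then f g else 0 := fun f g => rfl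
  have hspan : Submodule.span ℂ (Set.range b) =
      Submodule.span ℂ ((fun χ : IrrCharacter G => pRegularPart p (χ : G → ℂ)) '' principalBlock M G) := by
    apply le_antisymm
    · apply Submodule.span_mono
      rintro _ ⟨χ, rfl⟩
      exact ⟨χ, (hXY _).2 (Or.inl χ.2), rfl⟩
    · rw [Submodule.span_le]
      rintro _ ⟨χ, hχ, rfl⟩
      rcases (hXY χ).1 hχ with h | h
      · exact Submodule.subset_span ⟨⟨χ, h⟩, rfl⟩
      · have h1 : pRegularPart p (χ : G → ℂ) = ∑ c : X, (-(δ₀ : ℂ) * (δ (c : IrrCharacter G) : ℂ)) • b c := by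
          funext g
          rw [Finset.sum_apply]
          simp only [Pi.smul_apply, smul_eq_mul, b, hreg]
          by_cases hg : IsPRegular p g
          · simp only [if_pos hg]
            have h2 := hsum χ h g hg
            have h3 : (χ : G → ℂ) g = -(δ₀ : ℂ) * ∑ c ∈ X, (δ c : ℂ) * (c : G → ℂ) g := by
              have h4 : (δ₀ : ℂ) * ((δ₀ : ℂ) * (χ : G → ℂ) g + ∑ c ∈ X, (δ c : ℂ) * (c : G → ℂ) g) = 0 := by
                rw [h2, mul_zero]
              rw [mul_add, ← mul_assoc, hδ₀2, one_mul] at h4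
              linear_combination h4
            rw [h3, Finset.mul_sum, ← Finset.sum_coe_sort X]
            exact Finset.sum_congr rfl fun c _ => by ring
          · simp [if_neg hg]
        show pRegularPart p (χ : G → ℂ) ∈ Submodule.span ℂ (Set.range b)
        rw [h1]
        exact Submodule.sum_mem _ fun c _ => Submodule.smul_mem _ _ (Submodule.subset_span ⟨c, rfl⟩)
  have hli : LinearIndependent ℂ b := by
    rw [linearIndependent_iff_card_eq_finrank_span, Set.finrank, hspan]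
    have : Fintype.card X = X.card := Fintype.card_coe X
    rw [this, ← hrank]
    rfl
  intro χ hχ
  have h1 := Fintype.linearIndependent_iff.1 hli (fun c => β c) (by
    funext g
    rw [Finset.sum_apply]
    simp only [Pi.smul_apply, smul_eq_mul, b, hreg, Pi.zero_apply]
    by_cases hg : IsPRegular p g
    · simp only [if_pos hg]
      rw [← hβ g hg, ← Finset.sum_coe_sort X]
    · simp [if_neg hg]) ⟨χ, hχ⟩
  exact h1

open Classical in
/-- Values of the nonexceptional characters at nonidentity elements of `P`. -/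
theorem X_values (hM : IsPModular p M) (P : Sylow p G) (hc : IsCyclic (P : Subgroup G))
    {X Y : Finset (IrrCharacter G)} (hXY : ∀ χ, χ ∈ principalBlock M G ↔ χ ∈ X ∨ χ ∈ Y) (hdisj : Disjoint X Y)
    (hrank : blockRank p (principalBlock M G) = X.card) {δ : IrrCharacter G → ℤ} {δ₀ : ℤ} (hδ₀ : δ₀ = 1 ∨ δ₀ = -1)
    (hsum : ∀ ψ ∈ Y, ∀ g : G, ¬ p ∣ orderOf g → (δ₀ : ℂ) * (ψ : G → ℂ) g + ∑ χ ∈ X, (δ χ : ℂ) * (χ : G → ℂ) g = 0)
    {u : G} (huP : u ∈ (P : Subgroup G)) (hu1 : u ≠ 1) :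
    ∀ χ ∈ X, conj ((χ : G → ℂ) u) = (δ₀ : ℂ) * (δ χ : ℂ) * ∑ ψ ∈ Y, conj ((ψ : G → ℂ) u) := by
  have hδ₀2 : (δ₀ : ℂ) * (δ₀ : ℂ) = 1 := by
    rcases hδ₀ with h | h <;> rw [h] <;> norm_num
  set S := ∑ ψ ∈ Y, conj ((ψ : G → ℂ) u) with hS
  have h1 := indep_X (M := M) hXY hrank hδ₀ hsum (fun χ => conj ((χ : G → ℂ) u) - (δ₀ : ℂ) * (δ χ : ℂ) * S) (by
    intro g hg
    have hpart : IsPPart p g 1 := ⟨g, one_mul g, Commute.one_left g, ⟨0, by simp⟩, hg⟩
    have h2 := section_sum (M := M) hM P hc huP hu1 hpart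
    rw [if_neg (fun h3 => hu1 (isConj_one_right.1 h3))] at h2
    have hs : (Finset.univ.filter (· ∈ principalBlock M G)) = X ∪ Y := by
      ext χ
      simp only [Finset.mem_filter, Finset.mem_univ, true_and, Finset.mem_union]
      exact hXY χ
    rw [hs, Finset.sum_union hdisj] at h2
    set T := ∑ χ ∈ X, (δ χ : ℂ) * (χ : G → ℂ) g with hT
    have h3 : ∀ ψ ∈ Y, (ψ : G → ℂ) g * conj ((ψ : G → ℂ) u) = -(δ₀ : ℂ) * T * conj ((ψ : G → ℂ) u) := by
      intro ψ hψ
      have h4 := hsum ψ hψ g hg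
      have h5 : (δ₀ : ℂ) * ((δ₀ : ℂ) * (ψ : G → ℂ) g + T) = 0 := by
        rw [h4, mul_zero]
      rw [mul_add, ← mul_assoc, hδ₀2, one_mul] at h5
      have h6 : (ψ : G → ℂ) g = -(δ₀ : ℂ) * T := by linear_combination h5
      rw [h6]
    rw [Finset.sum_congr rfl h3, ← Finset.mul_sum] at h2
    have h7 : ∑ χ ∈ X, (conj ((χ : G → ℂ) u) - (δ₀ : ℂ) * (δ χ : ℂ) * S) * (χ : G → ℂ) g =
        ∑ χ ∈ X, (χ : G → ℂ) g * conj ((χ : G → ℂ) u) - (δ₀ : ℂ) * S * T := by
      rw [hT, Finset.mul_sum, ← Finset.sum_sub_distrib]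
      exact Finset.sum_congr rfl fun χ _ => by ring
    rw [h7]
    linear_combination h2)
  intro χ hχ
  exact sub_eq_zero.1 (h1 χ hχ)

end Dade

end Cfsg.Agent.Lib.CycBS
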