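import Mathlib
import Cfsg.Prelude.Def_Blocks
import Cfsg.Agent.Lib.CycBS.MOne1

/-!
# The case when all nonidentity powers of `x` are conjugate: the identities
-/

set_option autoImplicit false
set_option linter.unusedSectionVars false
set_option linter.style.haveILetI false

namespace Cfsg.Agent.Lib.CycBS

open Cfsg Subgroup
open Cfsg.Agent.Lib.Blocks.Sections Cfsg.Agent.Lib.Blocks.Principal Cfsg.Agent.Lib.Blocks.PrincipalCen
open scoped ComplexConjugate

universe u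

section Values

variable {G : Type u} [Group G] [Fintype G] {M : Ideal AlgInt} [hMp : M.IsPrime] {p : ℕ} [hp : Fact p.Prime]

lemma charDeg_cast (χ : IrrCharacter G) : (χ : G → ℂ) 1 = ((charDegree (χ : G → ℂ) : ℕ) : ℂ) :=
  (Cfsg.Agent.Lib.Blocks.RegInt.charDegree_cast χ).symm

lemma charDeg_pos (χ : IrrCharacter G) : 0 < charDegree (χ : G → ℂ) := by
  apply Nat.pos_of_ne_zero
  intro h
  apply Cfsg.Agent.Lib.Char.Ortho.irr_apply_one_ne_zero χ.2
  rw [charDeg_cast, h]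
  simp

lemma isIntegral_val (χ : IrrCharacter G) (x : G) : IsIntegral ℤ ((χ : G → ℂ) x) := by
  obtain ⟨d, ρ, hρ, hχ⟩ := χ.2
  have h : (χ : G → ℂ) = ρ.character := hχ.symm
  rw [h]
  exact Cfsg.Agent.Lib.Char.Values.isIntegral_character ρ x

/-- The value at `x` is an integer congruent to the degree mod `p`. -/
theorem exists_int_value {x : G} (hx : orderOf x = p) [Fintype (zpowers x)]
    (hconj : ∀ u ∈ zpowers x, u ≠ 1 → IsConj u x) (χ : IrrCharacter G) :
    ∃ a : ℤ, (χ : G → ℂ) x = (a : ℂ) ∧ ((p : ℤ) ∣ (charDegree (χ : G → ℂ) : ℤ) - a) ∧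
      W (1 : zpowers x →* ℂ) (χ : G → ℂ) =
        (((p : ℂ) - 1) * (a : ℂ) + ((charDegree (χ : G → ℂ) : ℕ) : ℂ)) / ((charDegree (χ : G → ℂ) : ℕ) : ℂ) := by
  classical
  have hconst : ∀ u ∈ zpowers x, u ≠ 1 → (χ : G → ℂ) u = (χ : G → ℂ) x := fun u hu hu1 =>
    Cfsg.Agent.Lib.Char.CompleteCor.irr_apply_of_isConj (hconj u hu hu1) χ
  obtain ⟨n, hn⟩ := exists_nat_sum_irr (zpowers x) (1 : zpowers x →* ℂ) χ
  have hsumc := sum_lam_const (1 : zpowers x →* ℂ) hconst
  have hcard : Nat.card (zpowers x) = p := by rw [Nat.card_zpowers, hx]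
  have hcard' : Fintype.card (zpowers x) = p := by rw [← Nat.card_eq_fintype_card, hcard]
  have hs1 : ∑ a : zpowers x, (1 : zpowers x →* ℂ) a = (p : ℂ) := by
    simp [Finset.card_univ, hcard']
  rw [hs1, charDeg_cast] at hsumc
  rw [hn, hcard] at hsumc
  have hp1 : ((p : ℂ) - 1) ≠ 0 := by
    have : ((p : ℂ) - 1) = ((p - 1 : ℕ) : ℂ) := by
      rw [Nat.cast_sub hp.out.one_le]
      simp
    rw [this]
    have := hp.out.two_le
    exact_mod_cast (by omega : p - 1 ≠ 0)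
  set d := charDegree (χ : G → ℂ) with hd
  set q : ℚ := ((p : ℚ) * n - d) / ((p : ℚ) - 1) with hq
  have hqc : ((q : ℚ) : ℂ) = (χ : G → ℂ) x := by
    rw [hq]
    push_cast
    rw [div_eq_iff hp1, hsumc]
    ring
  have hint : IsIntegral ℤ ((q : ℚ) : ℂ) := by
    rw [hqc]
    exact isIntegral_val χ x
  have hint2 : IsIntegral ℤ q := by
    have h2 : algebraMap ℚ ℂ q = ((q : ℚ) : ℂ) := rfl
    rw [← h2] at hint
    exact (isIntegral_algebraMap_iff (algebraMap ℚ ℂ).injective).1 hint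
  obtain ⟨m, hm⟩ := IsIntegrallyClosed.isIntegral_iff.1 hint2
  have hm' : (q : ℚ) = (m : ℚ) := hm.symm
  have hval : (χ : G → ℂ) x = (m : ℂ) := by
    rw [← hqc, hm']
    simp
  refine ⟨m, hval, ?_, ?_⟩
  · -- `p n = (p - 1) m + d`
    have h1 : ((p : ℂ) * n) = ((p : ℂ) - 1) * (m : ℂ) + (d : ℂ) := by
      rw [hsumc, hval]
      ring
    have h2 : ((p : ℤ) * n) = ((p : ℤ) - 1) * m + (d : ℤ) := by exact_mod_cast h1
    refine ⟨n - m, ?_⟩
    linarith
  · rw [W, charDeg_cast, hn, hcard, ← hd, ]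
    congr 1
    have h1 : ((p : ℂ) * n) = (χ : G → ℂ) x * p + ((d : ℂ) - (χ : G → ℂ) x) := hsumc
    rw [h1, hval]
    ring

end Values

end Cfsg.Agent.Lib.CycBS
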