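import Mathlib
import Cfsg.Prelude.Def_Blocks
import Cfsg.Agent.Lib.CycBS.MOne2

/-!
# The case when all nonidentity powers of `x` are conjugate: Sylow subgroups of order at least `p²`
-/

set_option autoImplicit false
set_option linter.unusedSectionVars false
set_option linter.style.haveILetI false

namespace Cfsg.Agent.Lib.CycBS

open Cfsg Subgroup
open Cfsg.Agent.Lib.Blocks.Sections Cfsg.Agent.Lib.Blocks.Principal Cfsg.Agent.Lib.Blocks.PrincipalCen
open scoped ComplexConjugate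

universe u

section Ident

variable {G : Type u} [Group G] [Fintype G] {M : Ideal AlgInt} [hMp : M.IsPrime] {p : ℕ} [hp : Fact p.Prime]

lemma isPPart_order {x : G} (hx : orderOf x = p) : IsPPart p x x :=
  Cfsg.Agent.Lib.Blocks.PrincipalColumn.isPPart_self (k := 1) (by rw [hx, pow_one])

open Classical in
/-- The sum of the squares. -/
lemma I1 (hM : IsPModular p M) (P : Sylow p G) (hc : IsCyclic (P : Subgroup G)) {x : G} (hx : orderOf x = p)
    (hxP : x ∈ (P : Subgroup G)) (hx1 : x ≠ 1) {a : IrrCharacter G → ℤ} (ha : ∀ χ : IrrCharacter G, (χ : G → ℂ) x = (a χ : ℂ)) :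
    ∑ χ ∈ Finset.univ.filter (· ∈ principalBlock M G), (a χ) ^ 2 = (Nat.card P : ℤ) := by
  have h := section_sum (M := M) hM P hc hxP hx1 (isPPart_order hx)
  rw [if_pos (IsConj.refl x)] at h
  have h1 : ((∑ χ ∈ Finset.univ.filter (· ∈ principalBlock M G), (a χ) ^ 2 : ℤ) : ℂ) = ((Nat.card P : ℤ) : ℂ) := by
    push_cast
    rw [← h]
    refine Finset.sum_congr rfl fun χ _ => ?_
    rw [ha, map_intCast, sq]
  exact_mod_cast h1

open Classical in
/-- The orthogonality with the degrees. -/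
lemma I2 (hM : IsPModular p M) (P : Sylow p G) (hc : IsCyclic (P : Subgroup G)) {x : G}
    (hxP : x ∈ (P : Subgroup G)) (hx1 : x ≠ 1) {a : IrrCharacter G → ℤ} (ha : ∀ χ : IrrCharacter G, (χ : G → ℂ) x = (a χ : ℂ)) :
    ∑ χ ∈ Finset.univ.filter (· ∈ principalBlock M G), (charDegree (χ : G → ℂ) : ℤ) * a χ = 0 := by
  have hpart : IsPPart p (1 : G) 1 := ⟨1, one_mul 1, Commute.one_left 1, ⟨0, by simp⟩, by
    rw [orderOf_one]
    exact hp.out.one_lt.ne' ∘ Nat.dvd_one.mp⟩
  have h := section_sum (M := M) hM P hc hxP hx1 hpart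
  rw [if_neg (fun h3 => hx1 (isConj_one_right.1 h3))] at h
  have h1 : ((∑ χ ∈ Finset.univ.filter (· ∈ principalBlock M G), (charDegree (χ : G → ℂ) : ℤ) * a χ : ℤ) : ℂ) = 0 := by
    push_cast
    rw [← h]
    refine Finset.sum_congr rfl fun χ _ => ?_
    rw [ha, map_intCast, charDeg_cast]
  exact_mod_cast h1

open Classical in
/-- The master identity in the present case. -/
lemma I3 (hM : IsPModular p M) (P : Sylow p G) (hc : IsCyclic (P : Subgroup G)) (hH : PairHyp p G)
    (hcyc : ∀ Q : Sylow p G, IsCyclic Q) {x : G} (hx : orderOf x = p) (hxP : x ∈ (P : Subgroup G))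
    [Fintype (zpowers x)] {a : IrrCharacter G → ℤ} (ha : ∀ χ : IrrCharacter G, (χ : G → ℂ) x = (a χ : ℂ))
    (hW : ∀ χ : IrrCharacter G, W (1 : zpowers x →* ℂ) (χ : G → ℂ) =
      (((p : ℂ) - 1) * (a χ : ℂ) + ((charDegree (χ : G → ℂ) : ℕ) : ℂ)) / ((charDegree (χ : G → ℂ) : ℕ) : ℂ))
    {u : G} (huP : u ∈ (P : Subgroup G)) (hu1 : u ≠ 1) :
    ((p : ℂ) - 1) * ∑ χ ∈ Finset.univ.filter (· ∈ principalBlock M G),
        conj ((χ : G → ℂ) u) * (a χ : ℂ) ^ 2 / ((charDegree (χ : G → ℂ) : ℕ) : ℂ) +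
      (if IsConj x u then (Nat.card P : ℂ) else 0) = (Nat.card P : ℂ) * (NC x u : ℂ) := by
  rw [← sum_W1 (M := M) hM P hc hH hcyc hx huP hu1 hx, ← section_sum (M := M) hM P hc huP hu1 (isPPart_order hx),
    Finset.mul_sum, ← Finset.sum_add_distrib]
  refine Finset.sum_congr rfl fun χ _ => ?_
  have hd : ((charDegree (χ : G → ℂ) : ℕ) : ℂ) ≠ 0 := by exact_mod_cast (charDeg_pos χ).ne'
  rw [hW χ, ha]
  field_simp

/-- The arithmetic of the last step. -/
lemma arith_last (A t e c : ℂ) (hc : c ≠ 0) (he : e ≠ 1) (E2 : A + t * e ^ 2 = 0)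
    (E1 : e * (A + t * ((1 - e) * (c - e) + e)) + c = c * e) : A = e := by
  have h1 : (1 - e) * ((e * t + 1) * c) = 0 := by
    linear_combination E1 - e * E2
  have h2 : (e * t + 1) * c = 0 := (mul_eq_zero.1 h1).resolve_left (sub_ne_zero.2 he.symm)
  have h3 : e * t + 1 = 0 := (mul_eq_zero.1 h2).resolve_right hc
  linear_combination E2 - e * h3

end Ident

end Cfsg.Agent.Lib.CycBS
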