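import Mathlib
import Cfsg.Prelude.Def_Blocks
import Cfsg.Agent.Lib.CycBS.MOne3

/-!
# The case when all nonidentity powers of `x` are conjugate: the trivial character is nonexceptional
-/

set_option autoImplicit false
set_option linter.unusedSectionVars false
set_option linter.style.haveILetI false

namespace Cfsg.Agent.Lib.CycBS

open Cfsg Subgroup
open Cfsg.Agent.Lib.Blocks.Sections Cfsg.Agent.Lib.Blocks.Principal Cfsg.Agent.Lib.Blocks.PrincipalCen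
open scoped ComplexConjugate

universe u

section CaseA

variable {G : Type u} [Group G] [Fintype G] {M : Ideal AlgInt} [hMp : M.IsPrime] {p : ℕ} [hp : Fact p.Prime]

lemma reg_one : ¬ p ∣ orderOf (1 : G) := by
  rw [orderOf_one]
  exact hp.out.one_lt.ne' ∘ Nat.dvd_one.mp

/-- The numerical part on the exceptional characters. -/
lemma exc_sq {Y : Finset (IrrCharacter G)} {a : IrrCharacter G → ℤ} {ε e c : ℤ} (hε : ε * ε = 1)
    (he : e = (p : ℤ) - 1) (h1 : ∑ ψ ∈ Y, a ψ = ε) (h2 : ∑ ψ ∈ Y, (a ψ) ^ 2 = c - e) (h3 : (Y.card : ℤ) * e = c - 1)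
    (hmod : ∀ ψ ∈ Y, (p : ℤ) ∣ ε * a ψ - 1) : ∀ ψ ∈ Y, (a ψ) ^ 2 = (1 - e) * ε * a ψ + e := by
  classical
  have hsum : ∑ ψ ∈ Y, (ε * a ψ - 1) * (ε * a ψ + e) = 0 := by
    have h4 : ∀ ψ ∈ Y, (ε * a ψ - 1) * (ε * a ψ + e) = (a ψ) ^ 2 + (e - 1) * ε * a ψ - e := by
      intro ψ _
      linear_combination (a ψ) ^ 2 * hε
    rw [Finset.sum_congr rfl h4, Finset.sum_sub_distrib, Finset.sum_add_distrib, h2, ← Finset.mul_sum, h1,
      Finset.sum_const, nsmul_eq_mul]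
    linear_combination (e - 1) * hε - h3
  have hnn : ∀ ψ ∈ Y, 0 ≤ (ε * a ψ - 1) * (ε * a ψ + e) := by
    intro ψ hψ
    obtain ⟨w, hw⟩ := hmod ψ hψ
    have h5 : (ε * a ψ - 1) * (ε * a ψ + e) = ((p : ℤ) ^ 2) * (w * (w + 1)) := by
      have h6 : ε * a ψ = (p : ℤ) * w + 1 := by linarith
      rw [h6, he]
      ring
    rw [h5]
    have h7 : 0 ≤ w * (w + 1) := by
      rcases le_or_gt 0 w with h8 | h8
      · positivity
      · have h9 : w + 1 ≤ 0 := by omega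
        nlinarith
    positivity
  have hz := (Finset.sum_eq_zero_iff_of_nonneg hnn).1 hsum
  intro ψ hψ
  have h4 := hz ψ hψ
  linear_combination h4 - (a ψ) ^ 2 * hε

open Classical in
/-- Normalization of the signs when the trivial character is nonexceptional. -/
lemma signs_of_triv (hM : IsPModular p M) (P : Sylow p G) (hc : IsCyclic (P : Subgroup G))
    {X Y : Finset (IrrCharacter G)} (hXY : ∀ χ, χ ∈ principalBlock M G ↔ χ ∈ X ∨ χ ∈ Y) (hdisj : Disjoint X Y)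
    (hrank : blockRank p (principalBlock M G) = X.card) {δ : IrrCharacter G → ℤ} {δ₀ : ℤ}
    (hδ : ∀ χ ∈ X, δ χ = 1 ∨ δ χ = -1) (hδ₀ : δ₀ = 1 ∨ δ₀ = -1)
    (hsum : ∀ ψ ∈ Y, ∀ g : G, ¬ p ∣ orderOf g → (δ₀ : ℂ) * (ψ : G → ℂ) g + ∑ χ ∈ X, (δ χ : ℂ) * (χ : G → ℂ) g = 0)
    (htriv : trivChar G ∈ X) :
    ∃ (δ' : IrrCharacter G → ℤ) (ε : ℤ), (∀ χ ∈ X, δ' χ = 1 ∨ δ' χ = -1) ∧ (ε = 1 ∨ ε = -1) ∧
      (∀ ψ ∈ Y, (ε : ℤ) * (charDegree (ψ : G → ℂ) : ℤ) + ∑ χ ∈ X, δ' χ * (charDegree (χ : G → ℂ) : ℤ) = 0) ∧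
      ∀ u ∈ (P : Subgroup G), u ≠ 1 → (∑ ψ ∈ Y, conj ((ψ : G → ℂ) u) = (ε : ℂ)) ∧
        ∀ χ ∈ X, conj ((χ : G → ℂ) u) = (δ' χ : ℂ) := by
  set σ : ℤ := δ (trivChar G) with hσd
  have hσ : σ = 1 ∨ σ = -1 := hδ _ htriv
  have hσ2 : (σ : ℂ) * σ = 1 := by rcases hσ with h | h <;> rw [h] <;> norm_num
  have hδ₀2 : (δ₀ : ℂ) * δ₀ = 1 := by rcases hδ₀ with h | h <;> rw [h] <;> norm_num
  have hσ2' : σ * σ = 1 := by rcases hσ with h | h <;> rw [h] <;> norm_num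
  refine ⟨fun χ => σ * δ χ, σ * δ₀, ?_, ?_, ?_, ?_⟩
  · intro χ hχ
    rcases hσ with h | h <;> rcases hδ χ hχ with h' | h' <;> simp [h, h']
  · rcases hσ with h | h <;> rcases hδ₀ with h' | h' <;> simp [h, h']
  · intro ψ hψ
    have h1 := hsum ψ hψ 1 reg_one
    rw [charDeg_cast, Finset.sum_congr rfl fun χ _ => by rw [charDeg_cast]] at h1
    have h2 : (δ₀ : ℤ) * (charDegree (ψ : G → ℂ) : ℤ) + ∑ χ ∈ X, δ χ * (charDegree (χ : G → ℂ) : ℤ) = 0 := by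
      exact_mod_cast h1
    have h3 : ∑ χ ∈ X, (σ * δ χ) * (charDegree (χ : G → ℂ) : ℤ) = σ * ∑ χ ∈ X, δ χ * (charDegree (χ : G → ℂ) : ℤ) := by
      rw [Finset.mul_sum]
      exact Finset.sum_congr rfl fun χ _ => by ring
    rw [h3]
    linear_combination σ * h2
  · intro u hu hu1
    have hX := X_values (M := M) hM P hc hXY hdisj hrank hδ₀ hsum hu hu1
    set S := ∑ ψ ∈ Y, conj ((ψ : G → ℂ) u) with hS
    have h1 := hX _ htriv
    simp only [coe_trivChar, map_one] at h1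
    have h2 : S = ((σ * δ₀ : ℤ) : ℂ) := by
      push_cast
      have h3 : ((δ₀ : ℂ) * (σ : ℂ)) * S = 1 := h1.symm
      linear_combination ((δ₀ : ℂ) * (σ : ℂ)) * h3 - S * ((δ₀ : ℂ) * δ₀) * hσ2 - S * hδ₀2
    refine ⟨h2, fun χ hχ => ?_⟩
    rw [hX χ hχ, h2]
    push_cast
    linear_combination (σ : ℂ) * (δ χ : ℂ) * hδ₀2

end CaseA

end Cfsg.Agent.Lib.CycBS
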