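import Mathlib
import Cfsg.Prelude.Def_Blocks
import Cfsg.Agent.Lib.CycBS.MOne4

/-!
# The case when all nonidentity powers of `x` are conjugate: `|P| ≥ p²`
-/

set_option autoImplicit false
set_option linter.unusedSectionVars false
set_option linter.style.haveILetI false

namespace Cfsg.Agent.Lib.CycBS

open Cfsg Subgroup
open Cfsg.Agent.Lib.Blocks.Sections Cfsg.Agent.Lib.Blocks.Principal Cfsg.Agent.Lib.Blocks.PrincipalCen
open scoped ComplexConjugate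

universe u

section CaseA

variable {G : Type u} [Group G] [Fintype G] {M : Ideal AlgInt} [hMp : M.IsPrime] {p : ℕ} [hp : Fact p.Prime]

set_option maxHeartbeats 1000000 in
open Classical in
theorem caseA (hM : IsPModular p M) (P : Sylow p G) (hc : IsCyclic (P : Subgroup G)) (hH : PairHyp p G)
    (hcyc : ∀ Q : Sylow p G, IsCyclic Q) [IsSimpleGroup G] (hna : ∃ a b : G, a * b ≠ b * a)
    {x : G} (hx : orderOf x = p) (hxP : x ∈ (P : Subgroup G)) [Fintype (zpowers x)] (hp3 : 3 ≤ p)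
    (hNC : NC x x = p - 1) {a : IrrCharacter G → ℤ} (ha : ∀ χ : IrrCharacter G, (χ : G → ℂ) x = (a χ : ℂ))
    (hpd : ∀ χ : IrrCharacter G, (p : ℤ) ∣ (charDegree (χ : G → ℂ) : ℤ) - a χ)
    (hW : ∀ χ : IrrCharacter G, W (1 : zpowers x →* ℂ) (χ : G → ℂ) =
      (((p : ℂ) - 1) * (a χ : ℂ) + ((charDegree (χ : G → ℂ) : ℕ) : ℂ)) / ((charDegree (χ : G → ℂ) : ℕ) : ℂ))
    {X Y : Finset (IrrCharacter G)} (hXY : ∀ χ, χ ∈ principalBlock M G ↔ χ ∈ X ∨ χ ∈ Y) (hdisj : Disjoint X Y)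
    (hXc : X.card = p - 1) (hrank : blockRank p (principalBlock M G) = X.card)
    (hr : Y.card * (p - 1) = Nat.card P - 1)
    (hreg : ∀ ψ ∈ Y, ∀ ψ' ∈ Y, ∀ g : G, ¬ p ∣ orderOf g → (ψ : G → ℂ) g = (ψ' : G → ℂ) g)
    {δ : IrrCharacter G → ℤ} {δ₀ : ℤ} (hδ : ∀ χ ∈ X, δ χ = 1 ∨ δ χ = -1) (hδ₀ : δ₀ = 1 ∨ δ₀ = -1)
    (hsum : ∀ ψ ∈ Y, ∀ g : G, ¬ p ∣ orderOf g → (δ₀ : ℂ) * (ψ : G → ℂ) g + ∑ χ ∈ X, (δ χ : ℂ) * (χ : G → ℂ) g = 0)
    (htriv : trivChar G ∈ X) {u₀ : G} (hu₀P : u₀ ∈ (P : Subgroup G)) (hu₀1 : u₀ ≠ 1) (hnc : ¬ IsConj x u₀)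
    (hNC0 : NC x u₀ = 0) : False := by
  have hx1 : x ≠ 1 := by
    rintro rfl
    rw [orderOf_one] at hx
    exact hp.out.one_lt.ne hx
  have hsU : (Finset.univ.filter (· ∈ principalBlock M G)) = X ∪ Y := by
    ext χ
    simp only [Finset.mem_filter, Finset.mem_univ, true_and, Finset.mem_union]
    exact hXY χ
  obtain ⟨δ', ε, hδ', hε, hrel, hval⟩ := signs_of_triv (M := M) hM P hc hXY hdisj hrank hδ hδ₀ hsum htriv
  have hε2 : ε * ε = 1 := by rcases hε with h | h <;> rw [h] <;> norm_num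
  have hδ'2 : ∀ χ ∈ X, δ' χ * δ' χ = 1 := fun χ hχ => by
    rcases hδ' χ hχ with h | h <;> rw [h] <;> norm_num
  -- the integer `e = p - 1`
  set e : ℤ := (p : ℤ) - 1 with he
  have hecast : ((p - 1 : ℕ) : ℤ) = e := by
    rw [he, Nat.cast_sub hp.out.one_le]
    simp
  have hXce : (X.card : ℤ) = e := by rw [hXc, hecast]
  have hc1 : 1 ≤ Nat.card P := Nat.card_pos
  -- values on `X`
  have hXa : ∀ χ ∈ X, a χ = δ' χ := by
    intro χ hχ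
    have h1 := (hval x hxP hx1).2 χ hχ
    rw [ha, map_intCast] at h1
    exact_mod_cast h1
  have hYa : ∑ ψ ∈ Y, a ψ = ε := by
    have h1 := (hval x hxP hx1).1
    simp only [ha, map_intCast] at h1
    exact_mod_cast h1
  -- squares
  have hI1 := I1 (M := M) hM P hc hx hxP hx1 ha
  rw [hsU, Finset.sum_union hdisj] at hI1
  have hXs : ∑ χ ∈ X, (a χ) ^ 2 = e := by
    rw [Finset.sum_congr rfl (fun χ hχ => by rw [hXa χ hχ, sq, hδ'2 χ hχ]), Finset.sum_const, nsmul_eq_mul, mul_one,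
      hXce]
  have hYs : ∑ ψ ∈ Y, (a ψ) ^ 2 = (Nat.card P : ℤ) - e := by linarith
  -- the exceptional degree
  have hYne : Y.Nonempty := by
    rw [← Finset.card_pos]
    by_contra h0
    have h1 : Y.card = 0 := by omega
    rw [h1, zero_mul] at hr
    have h2 : p ∣ Nat.card P := by
      have := orderOf_dvd_natCard (⟨x, hxP⟩ : (P : Subgroup G))
      rwa [Subgroup.orderOf_mk, hx] at this
    have h3 := Nat.le_of_dvd hc1 h2
    have := hp.out.two_le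
    omega
  obtain ⟨ψ₀, hψ₀⟩ := hYne
  set d₀ := charDegree (ψ₀ : G → ℂ) with hd₀
  have hdeg : ∀ ψ ∈ Y, charDegree (ψ : G → ℂ) = d₀ := by
    intro ψ hψ
    have h1 := hreg ψ hψ ψ₀ hψ₀ 1 reg_one
    rw [charDeg_cast, charDeg_cast] at h1
    exact_mod_cast h1
  have hd₀pos : 0 < d₀ := charDeg_pos ψ₀
  -- congruences
  have hmod1 : ∀ χ ∈ X, (p : ℤ) ∣ δ' χ * (charDegree (χ : G → ℂ) : ℤ) - 1 := by
    intro χ hχ
    have h1 := hpd χ
    rw [hXa χ hχ] at h1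
    have h2 : δ' χ * (charDegree (χ : G → ℂ) : ℤ) - 1 = δ' χ * ((charDegree (χ : G → ℂ) : ℤ) - δ' χ) := by
      rw [mul_sub, hδ'2 χ hχ]
    rw [h2]
    exact Dvd.dvd.mul_left h1 _
  have hmod2 : (p : ℤ) ∣ ∑ χ ∈ X, (δ' χ * (charDegree (χ : G → ℂ) : ℤ) - 1) := Finset.dvd_sum hmod1
  have hmod3 : (p : ℤ) ∣ ε * (d₀ : ℤ) - 1 := by
    have h1 := hrel ψ₀ hψ₀
    have h2 : ε * (d₀ : ℤ) - 1 = -(∑ χ ∈ X, (δ' χ * (charDegree (χ : G → ℂ) : ℤ) - 1)) - (p : ℤ) := by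
      rw [Finset.sum_sub_distrib, Finset.sum_const, nsmul_eq_mul, mul_one, hXce, he]
      linear_combination h1
    rw [h2]
    exact dvd_sub (dvd_neg.2 hmod2) (dvd_refl _)
  have hmod4 : ∀ ψ ∈ Y, (p : ℤ) ∣ ε * a ψ - 1 := by
    intro ψ hψ
    have h1 := hpd ψ
    rw [hdeg ψ hψ] at h1
    have h2 : ε * a ψ - 1 = (ε * (d₀ : ℤ) - 1) - ε * ((d₀ : ℤ) - a ψ) := by ring
    rw [h2]
    exact dvd_sub hmod3 (Dvd.dvd.mul_left h1 _)
  have hrZ : (Y.card : ℤ) * e = (Nat.card P : ℤ) - 1 := by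
    have h1 : ((Y.card * (p - 1) : ℕ) : ℤ) = ((Nat.card P - 1 : ℕ) : ℤ) := by rw [hr]
    rw [Nat.cast_mul, hecast, Nat.cast_sub hc1] at h1
    simpa using h1
  have hsq := exc_sq (p := p) hε2 he hYa hYs hrZ hmod4
  -- the two equations
  have hpc : ((p : ℂ) - 1) = (e : ℂ) := by
    rw [he]
    push_cast
    rfl
  have he0 : (e : ℂ) ≠ 0 := by
    have h1 : (2 : ℤ) ≤ e := by
      rw [he]
      have : (3 : ℤ) ≤ (p : ℤ) := by exact_mod_cast hp3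
      linarith
    exact_mod_cast (by linarith : e ≠ 0)
  have he1 : (e : ℂ) ≠ 1 := by
    have h1 : (2 : ℤ) ≤ e := by
      rw [he]
      have : (3 : ℤ) ≤ (p : ℤ) := by exact_mod_cast hp3
      linarith
    exact_mod_cast (by linarith : e ≠ 1)
  have hd₀c : ((d₀ : ℕ) : ℂ) ≠ 0 := by exact_mod_cast hd₀pos.ne'
  set A : ℂ := ∑ χ ∈ X, (δ' χ : ℂ) / ((charDegree (χ : G → ℂ) : ℕ) : ℂ) with hA
  set t : ℂ := (ε : ℂ) / ((d₀ : ℕ) : ℂ) with ht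
  have hsqc : ∀ ψ ∈ Y, (a ψ : ℂ) ^ 2 = (1 - (e : ℂ)) * (ε : ℂ) * (a ψ : ℂ) + (e : ℂ) := by
    intro ψ hψ
    exact_mod_cast hsq ψ hψ
  have hε2c : (ε : ℂ) * ε = 1 := by exact_mod_cast hε2
  -- first equation
  have hE2 : A + t * (e : ℂ) ^ 2 = 0 := by
    have h1 := I3 (M := M) hM P hc hH hcyc hx hxP ha hW hu₀P hu₀1
    rw [if_neg hnc, hNC0, hsU, Finset.sum_union hdisj, hpc] at h1
    simp only [Nat.cast_zero, mul_zero, add_zero] at h1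
    have h2 := (mul_eq_zero.1 h1).resolve_left he0
    have h3 : ∑ χ ∈ X, conj ((χ : G → ℂ) u₀) * (a χ : ℂ) ^ 2 / ((charDegree (χ : G → ℂ) : ℕ) : ℂ) = A := by
      refine Finset.sum_congr rfl fun χ hχ => ?_
      rw [(hval u₀ hu₀P hu₀1).2 χ hχ, hXa χ hχ]
      have h4 : (δ' χ : ℂ) * δ' χ = 1 := by exact_mod_cast hδ'2 χ hχ
      rw [sq, h4, mul_one]
    have hY1 := (hval u₀ hu₀P hu₀1).1
    have hY2 : ∑ ψ ∈ Y, (a ψ : ℂ) * conj ((ψ : G → ℂ) u₀) = -(e : ℂ) := by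
      have h5 := section_sum (M := M) hM P hc hu₀P hu₀1 (isPPart_order hx)
      rw [if_neg hnc, hsU, Finset.sum_union hdisj] at h5
      have h6 : ∑ χ ∈ X, (χ : G → ℂ) x * conj ((χ : G → ℂ) u₀) = (e : ℂ) := by
        have h7 : ∀ χ ∈ X, (χ : G → ℂ) x * conj ((χ : G → ℂ) u₀) = 1 := by
          intro χ hχ
          rw [(hval u₀ hu₀P hu₀1).2 χ hχ, ha, hXa χ hχ]
          exact_mod_cast hδ'2 χ hχ
        rw [Finset.sum_congr rfl h7, Finset.sum_const, nsmul_eq_mul, mul_one]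
        exact_mod_cast hXce
      rw [h6] at h5
      have h8 : ∑ ψ ∈ Y, (ψ : G → ℂ) x * conj ((ψ : G → ℂ) u₀) = ∑ ψ ∈ Y, (a ψ : ℂ) * conj ((ψ : G → ℂ) u₀) :=
        Finset.sum_congr rfl fun ψ _ => by rw [ha]
      rw [h8] at h5
      linear_combination h5
    have h9 : ∑ ψ ∈ Y, conj ((ψ : G → ℂ) u₀) * (a ψ : ℂ) ^ 2 / ((charDegree (ψ : G → ℂ) : ℕ) : ℂ) =
        t * (e : ℂ) ^ 2 := by
      have h10 : ∀ ψ ∈ Y, conj ((ψ : G → ℂ) u₀) * (a ψ : ℂ) ^ 2 / ((charDegree (ψ : G → ℂ) : ℕ) : ℂ) =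
          (((1 - (e : ℂ)) * (ε : ℂ)) * ((a ψ : ℂ) * conj ((ψ : G → ℂ) u₀)) + (e : ℂ) * conj ((ψ : G → ℂ) u₀)) /
            ((d₀ : ℕ) : ℂ) := by
        intro ψ hψ
        rw [hsqc ψ hψ, hdeg ψ hψ]
        ring
      rw [Finset.sum_congr rfl h10, ← Finset.sum_div, Finset.sum_add_distrib, ← Finset.mul_sum, ← Finset.mul_sum,
        hY2, hY1, ht]
      ring
    rw [h3, h9] at h2
    exact h2
  -- second equation
  have hE1 : (e : ℂ) * (A + t * ((1 - (e : ℂ)) * ((Nat.card P : ℂ) - (e : ℂ)) + (e : ℂ))) + (Nat.card P : ℂ) =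
      (Nat.card P : ℂ) * (e : ℂ) := by
    have h1 := I3 (M := M) hM P hc hH hcyc hx hxP ha hW hxP hx1
    rw [if_pos (IsConj.refl x), hNC, hsU, Finset.sum_union hdisj, hpc] at h1
    have hNCc : (((p - 1 : ℕ) : ℕ) : ℂ) = (e : ℂ) := by exact_mod_cast hecast
    rw [hNCc] at h1
    have h3 : ∑ χ ∈ X, conj ((χ : G → ℂ) x) * (a χ : ℂ) ^ 2 / ((charDegree (χ : G → ℂ) : ℕ) : ℂ) = A := by
      refine Finset.sum_congr rfl fun χ hχ => ?_
      rw [ha, map_intCast, hXa χ hχ]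
      have h4 : (δ' χ : ℂ) * δ' χ = 1 := by exact_mod_cast hδ'2 χ hχ
      rw [sq, h4, mul_one]
    have hYsc : ∑ ψ ∈ Y, (a ψ : ℂ) ^ 2 = (Nat.card P : ℂ) - (e : ℂ) := by exact_mod_cast hYs
    have hYac : ∑ ψ ∈ Y, (a ψ : ℂ) = (ε : ℂ) := by exact_mod_cast hYa
    have h9 : ∑ ψ ∈ Y, conj ((ψ : G → ℂ) x) * (a ψ : ℂ) ^ 2 / ((charDegree (ψ : G → ℂ) : ℕ) : ℂ) =
        t * ((1 - (e : ℂ)) * ((Nat.card P : ℂ) - (e : ℂ)) + (e : ℂ)) := by
      have h10 : ∀ ψ ∈ Y, conj ((ψ : G → ℂ) x) * (a ψ : ℂ) ^ 2 / ((charDegree (ψ : G → ℂ) : ℕ) : ℂ) =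
          (((1 - (e : ℂ)) * (ε : ℂ)) * (a ψ : ℂ) ^ 2 + (e : ℂ) * (a ψ : ℂ)) / ((d₀ : ℕ) : ℂ) := by
        intro ψ hψ
        rw [ha, map_intCast, hdeg ψ hψ]
        linear_combination ((a ψ : ℂ) / ((d₀ : ℕ) : ℂ)) * hsqc ψ hψ
      rw [Finset.sum_congr rfl h10, ← Finset.sum_div, Finset.sum_add_distrib, ← Finset.mul_sum, ← Finset.mul_sum,
        hYsc, hYac, ht]
      ring
    rw [h3, h9] at h1
    exact h1
  have hcc : (Nat.card P : ℂ) ≠ 0 := by exact_mod_cast (Nat.card_pos.ne' : Nat.card P ≠ 0)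
  have hAe := arith_last A t (e : ℂ) (Nat.card P : ℂ) hcc he1 hE2 hE1
  -- the contradiction
  have hAr : ∑ χ ∈ X, ((δ' χ : ℝ) / ((charDegree (χ : G → ℂ) : ℕ) : ℝ)) = (e : ℝ) := by
    have h1 : ((∑ χ ∈ X, ((δ' χ : ℝ) / ((charDegree (χ : G → ℂ) : ℕ) : ℝ)) : ℝ) : ℂ) = ((e : ℝ) : ℂ) := by
      push_cast
      rw [← hAe]
    exact_mod_cast h1
  have hsum0 : ∑ χ ∈ X, (1 - (δ' χ : ℝ) / ((charDegree (χ : G → ℂ) : ℕ) : ℝ)) = 0 := by
    rw [Finset.sum_sub_distrib, hAr, Finset.sum_const, nsmul_eq_mul, mul_one]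
    have : ((X.card : ℤ) : ℝ) = (e : ℝ) := by rw [hXce]
    push_cast at this
    rw [this]
    ring
  have hnn : ∀ χ ∈ X, 0 ≤ 1 - (δ' χ : ℝ) / ((charDegree (χ : G → ℂ) : ℕ) : ℝ) := by
    intro χ hχ
    have hd1 : (1 : ℝ) ≤ ((charDegree (χ : G → ℂ) : ℕ) : ℝ) := by exact_mod_cast charDeg_pos χ
    have hs : (δ' χ : ℝ) ≤ 1 := by
      rcases hδ' χ hχ with h | h <;> rw [h] <;> norm_num
    rw [sub_nonneg, div_le_one (by linarith)]
    linarith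
  have hz := (Finset.sum_eq_zero_iff_of_nonneg hnn).1 hsum0
  have hall : ∀ χ ∈ X, χ = trivChar G := by
    intro χ hχ
    apply eq_triv_of_degree_one hna
    have hd1 : (1 : ℝ) ≤ ((charDegree (χ : G → ℂ) : ℕ) : ℝ) := by exact_mod_cast charDeg_pos χ
    have h1 := hz χ hχ
    have h2 : (δ' χ : ℝ) = ((charDegree (χ : G → ℂ) : ℕ) : ℝ) := by
      have h3 : ((charDegree (χ : G → ℂ) : ℕ) : ℝ) ≠ 0 := by linarith
      field_simp at h1
      linarith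
    have h4 : (δ' χ : ℝ) ≤ 1 := by
      rcases hδ' χ hχ with h | h <;> rw [h] <;> norm_num
    have h5 : ((charDegree (χ : G → ℂ) : ℕ) : ℝ) = 1 := by linarith
    have h6 : charDegree (χ : G → ℂ) = 1 := by exact_mod_cast h5
    rw [charDeg_cast, h6]
    simp
  have hle : X.card ≤ 1 := Finset.card_le_one.2 fun χ hχ χ' hχ' => by rw [hall χ hχ, hall χ' hχ']
  omega

end CaseA

end Cfsg.Agent.Lib.CycBS
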