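import Mathlib
import Cfsg.Prelude.Def_Blocks
import Cfsg.Agent.Lib.CycBS.MOne5

/-!
# The case when all nonidentity powers of `x` are conjugate: `|P| = p`
-/

set_option autoImplicit false
set_option linter.unusedSectionVars false
set_option linter.style.haveILetI false

namespace Cfsg.Agent.Lib.CycBS

open Cfsg Subgroup
open Cfsg.Agent.Lib.Blocks.Sections Cfsg.Agent.Lib.Blocks.Principal Cfsg.Agent.Lib.Blocks.PrincipalCen
open scoped ComplexConjugate

universe u

section CaseB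

variable {G : Type u} [Group G] [Fintype G] {M : Ideal AlgInt} [hMp : M.IsPrime] {p : ℕ} [hp : Fact p.Prime]

set_option maxHeartbeats 1000000 in
open Classical in
theorem caseB (hM : IsPModular p M) (P : Sylow p G) (hc : IsCyclic (P : Subgroup G)) (hH : PairHyp p G)
    (hcyc : ∀ Q : Sylow p G, IsCyclic Q) [IsSimpleGroup G] (hna : ∃ a b : G, a * b ≠ b * a)
    {x : G} (hx : orderOf x = p) (hxP : x ∈ (P : Subgroup G)) [Fintype (zpowers x)] (hp3 : 3 ≤ p)
    (hNC : NC x x = p - 1) {a : IrrCharacter G → ℤ} (ha : ∀ χ : IrrCharacter G, (χ : G → ℂ) x = (a χ : ℂ))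
    (hpd : ∀ χ : IrrCharacter G, (p : ℤ) ∣ (charDegree (χ : G → ℂ) : ℤ) - a χ)
    (hW : ∀ χ : IrrCharacter G, W (1 : zpowers x →* ℂ) (χ : G → ℂ) =
      (((p : ℂ) - 1) * (a χ : ℂ) + ((charDegree (χ : G → ℂ) : ℕ) : ℂ)) / ((charDegree (χ : G → ℂ) : ℕ) : ℂ))
    {X Y : Finset (IrrCharacter G)} (hXY : ∀ χ, χ ∈ principalBlock M G ↔ χ ∈ X ∨ χ ∈ Y) (hdisj : Disjoint X Y)
    (hXc : X.card = p - 1) (hrank : blockRank p (principalBlock M G) = X.card)
    (hcP : Nat.card P = p) (hYc : Y.card = 1)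
    {δ : IrrCharacter G → ℤ} {δ₀ : ℤ} (hδ : ∀ χ ∈ X, δ χ = 1 ∨ δ χ = -1) (hδ₀ : δ₀ = 1 ∨ δ₀ = -1)
    (hsum : ∀ ψ ∈ Y, ∀ g : G, ¬ p ∣ orderOf g → (δ₀ : ℂ) * (ψ : G → ℂ) g + ∑ χ ∈ X, (δ χ : ℂ) * (χ : G → ℂ) g = 0) :
    False := by
  have hx1 : x ≠ 1 := by
    rintro rfl
    rw [orderOf_one] at hx
    exact hp.out.one_lt.ne hx
  obtain ⟨ψ, rfl⟩ := Finset.card_eq_one.1 hYc
  have hsU : (Finset.univ.filter (· ∈ principalBlock M G)) = X ∪ {ψ} := by
    ext χ
    simp only [Finset.mem_filter, Finset.mem_univ, true_and, Finset.mem_union]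
    exact hXY χ
  set s := Finset.univ.filter (· ∈ principalBlock M G) with hs
  have hscard : s.card = p := by
    rw [hsU, Finset.card_union_of_disjoint hdisj, hXc, Finset.card_singleton]
    have := hp.out.one_le
    omega
  have hδ₀2 : δ₀ * δ₀ = 1 := by rcases hδ₀ with h | h <;> rw [h] <;> norm_num
  have hδ2 : ∀ χ ∈ X, δ χ * δ χ = 1 := fun χ hχ => by
    rcases hδ χ hχ with h | h <;> rw [h] <;> norm_num
  have hvalX : ∀ χ ∈ X, a χ = δ₀ * δ χ * a ψ := by
    intro χ hχ
    have h1 := X_values (M := M) hM P hc hXY hdisj hrank hδ₀ hsum hxP hx1 χ hχ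
    rw [Finset.sum_singleton, ha, ha, map_intCast, map_intCast] at h1
    exact_mod_cast h1
  have hXs : ∀ χ ∈ X, (a χ) ^ 2 = (a ψ) ^ 2 := by
    intro χ hχ
    rw [hvalX χ hχ]
    linear_combination (a ψ) ^ 2 * (δ χ * δ χ) * hδ₀2 + (a ψ) ^ 2 * hδ2 χ hχ
  have hψ1 : (a ψ) ^ 2 = 1 := by
    have hI1 := I1 (M := M) hM P hc hx hxP hx1 ha
    rw [← hs, hsU, Finset.sum_union hdisj, Finset.sum_singleton, Finset.sum_congr rfl hXs, Finset.sum_const,
      nsmul_eq_mul, hXc, hcP] at hI1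
    have h1 : ((p - 1 : ℕ) : ℤ) = (p : ℤ) - 1 := by
      rw [Nat.cast_sub hp.out.one_le]
      simp
    rw [h1] at hI1
    have h2 : (p : ℤ) * ((a ψ) ^ 2 - 1) = 0 := by linear_combination hI1
    have h3 : (p : ℤ) ≠ 0 := by exact_mod_cast hp.out.pos.ne'
    have h4 := (mul_eq_zero.1 h2).resolve_left h3
    linarith
  have hs1 : ∀ χ ∈ s, (a χ) ^ 2 = 1 := by
    intro χ hχ
    rw [hsU, Finset.mem_union] at hχ
    rcases hχ with h | h
    · rw [hXs χ h, hψ1]
    · rw [Finset.mem_singleton.1 h, hψ1]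
  have hs2 : ∀ χ ∈ s, a χ = 1 ∨ a χ = -1 := fun χ hχ => mul_self_eq_one_iff.1 (by rw [← sq]; exact hs1 χ hχ)
  -- the trivial character
  have htm : trivChar G ∈ s := Finset.mem_filter.2 ⟨Finset.mem_univ _, trivChar_mem_principalBlock⟩
  have hta : a (trivChar G) = 1 := by
    have h1 := ha (trivChar G)
    simp only [coe_trivChar] at h1
    exact_mod_cast h1.symm
  have htd : charDegree ((trivChar G : IrrCharacter G) : G → ℂ) = 1 := by
    have h1 := charDeg_cast (trivChar G)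
    simp only [coe_trivChar] at h1
    exact_mod_cast h1.symm
  -- a character with value `-1`
  have hex : ∃ χ₀ ∈ s, a χ₀ = -1 := by
    by_contra hne
    push_neg at hne
    have h1 := I2 (M := M) hM P hc hxP hx1 ha
    rw [← hs] at h1
    have h2 : 0 < ∑ χ ∈ s, (charDegree (χ : G → ℂ) : ℤ) * a χ := by
      apply Finset.sum_pos _ ⟨_, htm⟩
      intro χ hχ
      have h3 : a χ = 1 := (hs2 χ hχ).resolve_right (hne χ hχ)
      rw [h3, mul_one]
      exact_mod_cast charDeg_pos χ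
    linarith
  obtain ⟨χ₀, hχ₀, hχ₀a⟩ := hex
  have hχ₀t : χ₀ ≠ trivChar G := by
    rintro rfl
    rw [hta] at hχ₀a
    norm_num at hχ₀a
  -- the bound
  set q : ℝ := (p : ℝ) with hq
  have hq3 : (3 : ℝ) ≤ q := by
    rw [hq]
    exact_mod_cast hp3
  have hq1 : 0 < q + 1 := by linarith
  have hbd : ∀ χ ∈ s, (a χ : ℝ) / ((charDegree (χ : G → ℂ) : ℕ) : ℝ) ≤
      1 / (q + 1) + (if χ = trivChar G then q / (q + 1) else 0) + (if χ = χ₀ then -1 / (q + 1) else 0) := by
    intro χ hχ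
    have hd1 : (1 : ℝ) ≤ ((charDegree (χ : G → ℂ) : ℕ) : ℝ) := by exact_mod_cast charDeg_pos χ
    by_cases h1 : χ = trivChar G
    · subst h1
      rw [if_pos rfl, if_neg hχ₀t.symm, hta, htd]
      apply le_of_eq
      push_cast
      field_simp
      ring
    · rw [if_neg h1]
      have hneg : (a χ = -1) → (a χ : ℝ) / ((charDegree (χ : G → ℂ) : ℕ) : ℝ) ≤ 0 := by
        intro h
        rw [h]
        apply div_nonpos_of_nonpos_of_nonneg
        · norm_num
        · linarith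
      by_cases h2 : χ = χ₀
      · subst h2
        rw [if_pos rfl]
        have h3 := hneg hχ₀a
        have h4 : 1 / (q + 1) + 0 + -1 / (q + 1) = 0 := by
          field_simp
          ring
        rw [h4]
        exact h3
      · rw [if_neg h2]
        have h3 : 0 < 1 / (q + 1) := by positivity
        rcases hs2 χ hχ with h4 | h4
        · -- the degree is at least `p + 1`
          have h5 : charDegree (χ : G → ℂ) ≠ 1 := by
            intro h6
            apply h1
            apply eq_triv_of_degree_one hna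
            rw [charDeg_cast, h6]
            simp
          have h6 := hpd χ
          rw [h4] at h6
          have h7 : 0 < charDegree (χ : G → ℂ) := charDeg_pos χ
          have h8 : p + 1 ≤ charDegree (χ : G → ℂ) := by
            have h9 : (p : ℤ) ≤ (charDegree (χ : G → ℂ) : ℤ) - 1 :=
              Int.le_of_dvd (by omega) h6
            omega
          have h9 : q + 1 ≤ ((charDegree (χ : G → ℂ) : ℕ) : ℝ) := by
            rw [hq]
            exact_mod_cast h8
          rw [h4]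
          simp only [Int.cast_one, add_zero]
          exact one_div_le_one_div_of_le hq1 h9
        · have h5 := hneg h4
          simp only [add_zero]
          linarith
  have hsumf : ∑ χ ∈ s, (1 / (q + 1) + (if χ = trivChar G then q / (q + 1) else 0) + (if χ = χ₀ then -1 / (q + 1) else 0))
      = (2 * q - 1) / (q + 1) := by
    rw [Finset.sum_add_distrib, Finset.sum_add_distrib, Finset.sum_const, nsmul_eq_mul, hscard,
      Finset.sum_ite_eq' s, if_pos htm, Finset.sum_ite_eq' s, if_pos hχ₀]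
    field_simp
    ring
  have hlam := Finset.sum_le_sum hbd
  rw [hsumf] at hlam
  -- the identity
  have hI3 := I3 (M := M) hM P hc hH hcyc hx hxP ha hW hxP hx1
  rw [if_pos (IsConj.refl x), hNC, hcP, ← hs] at hI3
  have h3 : ∑ χ ∈ s, conj ((χ : G → ℂ) x) * (a χ : ℂ) ^ 2 / ((charDegree (χ : G → ℂ) : ℕ) : ℂ) =
      ((∑ χ ∈ s, (a χ : ℝ) / ((charDegree (χ : G → ℂ) : ℕ) : ℝ) : ℝ) : ℂ) := by
    push_cast
    refine Finset.sum_congr rfl fun χ hχ => ?_
    have h4 : (a χ : ℂ) ^ 2 = 1 := by exact_mod_cast hs1 χ hχ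
    rw [ha, map_intCast, h4, mul_one]
  rw [h3] at hI3
  set T : ℝ := ∑ χ ∈ s, (a χ : ℝ) / ((charDegree (χ : G → ℂ) : ℕ) : ℝ) with hT
  have hI3r : (q - 1) * T + q = q * (q - 1) := by
    have h4 : ((p - 1 : ℕ) : ℂ) = (p : ℂ) - 1 := by
      rw [Nat.cast_sub hp.out.one_le]
      simp
    rw [h4] at hI3
    have h5 : (((q - 1) * T + q : ℝ) : ℂ) = ((q * (q - 1) : ℝ) : ℂ) := by
      push_cast
      rw [hq]
      push_cast
      exact hI3
    exact_mod_cast h5
  have h5 : (q + 1) * T ≤ 2 * q - 1 := by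
    rw [le_div_iff₀ hq1] at hlam
    linarith
  have h6 : (q + 1) * ((q - 1) * T) ≤ (q - 1) * (2 * q - 1) := by
    have h7 : 0 ≤ q - 1 := by linarith
    nlinarith
  have h7 : (q - 1) * T = q * (q - 1) - q := by linarith
  rw [h7] at h6
  nlinarith [mul_nonneg (sq_nonneg q) (sub_nonneg.2 hq3)]

end CaseB

end Cfsg.Agent.Lib.CycBS
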