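import Mathlib
import Cfsg.Prelude.Def_Blocks
import Cfsg.Agent.Lib.CycBS.MOne6
import Cfsg.Agent.Lib.Blocks.ClassIndep

/-!
# Simple groups with cyclic Sylow `p`-subgroups: pairs of elements of order `p` cannot all generate `p`-solvable groups
-/

set_option autoImplicit false
set_option linter.unusedSectionVars false
set_option linter.style.haveILetI false

namespace Cfsg.Agent.Lib.CycBS

open Cfsg Subgroup
open Cfsg.Agent.Lib.Blocks.Sections Cfsg.Agent.Lib.Blocks.Principal Cfsg.Agent.Lib.Blocks.PrincipalCen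
open scoped ComplexConjugate

universe u

section Simple

variable {G : Type u} [Group G] [Fintype G] {p : ℕ} [hp : Fact p.Prime]

lemma conj_of_NC {x : G} [Fintype (zpowers x)] (hx : orderOf x = p) (hNC : NC x x = p - 1) :
    ∀ u ∈ zpowers x, u ≠ 1 → IsConj u x := by
  classical
  have hcard : Fintype.card (zpowers x) = p := by
    rw [← Nat.card_eq_fintype_card, Nat.card_zpowers, hx]
  have hsub : (Finset.univ.filter fun a' : zpowers x => IsConj (a' : G) x) ⊆ Finset.univ.erase (1 : zpowers x) := by
    intro a' ha'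
    have h1 := (Finset.mem_filter.1 ha').2
    refine Finset.mem_erase.2 ⟨?_, Finset.mem_univ _⟩
    rintro rfl
    have h2 : x = 1 := by
      have h3 : 1 = x := by simpa using h1
      exact h3.symm
    rw [h2, orderOf_one] at hx
    exact hp.out.one_lt.ne hx
  have hcard2 : (Finset.univ.erase (1 : zpowers x)).card ≤
      (Finset.univ.filter fun a' : zpowers x => IsConj (a' : G) x).card := by
    rw [Finset.card_erase_of_mem (Finset.mem_univ _), Finset.card_univ, hcard]
    have h3 : NC x x = (Finset.univ.filter fun a' : zpowers x => IsConj (a' : G) x).card := by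
      unfold NC
      congr!
    rw [← h3, hNC]
  have heq := Finset.eq_of_subset_of_card_le hsub hcard2
  intro u hu hu1
  have h1 : (⟨u, hu⟩ : zpowers x) ∈ Finset.univ.erase (1 : zpowers x) :=
    Finset.mem_erase.2 ⟨fun h => hu1 (congrArg Subtype.val h), Finset.mem_univ _⟩
  rw [← heq] at h1
  exact (Finset.mem_filter.1 h1).2

set_option maxHeartbeats 1000000 in
open Classical in
/-- **The theorem for simple groups.** -/
theorem false_of_simple [IsSimpleGroup G] (hna : ∃ a b : G, a * b ≠ b * a) (hp3 : 3 ≤ p)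
    (hdvd : p ∣ Nat.card G) (hH : PairHyp p G) (hcyc : ∀ Q : Sylow p G, IsCyclic Q) : False := by
  obtain ⟨M, hM⟩ := Cfsg.Agent.Lib.Blocks.ClassIndep.exists_modular p hp.out
  haveI hMp : M.IsPrime := hM.2.1.isPrime
  obtain ⟨x, hx⟩ := exists_prime_orderOf_dvd_card' p hdvd
  have hxp : IsPGroup p (zpowers x) := by
    apply IsPGroup.of_card (n := 1)
    rw [Nat.card_zpowers, hx, pow_one]
  obtain ⟨P, hP⟩ := hxp.exists_le_sylow
  have hxP : x ∈ (P : Subgroup G) := hP (mem_zpowers x)
  letI : Fintype (zpowers x) := Fintype.ofFinite _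
  have hc : IsCyclic (P : Subgroup G) := hcyc P
  have hNC := NC_eq_pred (M := M) hM P hH hcyc hna hx hxP
  have hconj := conj_of_NC hx hNC
  choose a ha hpd hW using exists_int_value (G := G) hx hconj
  -- the size of `P`
  obtain ⟨k, hk⟩ := IsPGroup.iff_card.1 P.isPGroup'
  have hp1 : 1 ≤ p := hp.out.one_le
  have hp0 : 0 < p - 1 := by have := hp.out.two_le; omega
  have hk1 : 1 ≤ k := by
    rcases Nat.eq_zero_or_pos k with h | h
    · exfalso
      rw [h, pow_zero] at hk
      have h2 : p ∣ Nat.card P := by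
        have := orderOf_dvd_natCard (⟨x, hxP⟩ : (P : Subgroup G))
        rwa [Subgroup.orderOf_mk, hx] at this
      rw [hk] at h2
      exact hp.out.one_lt.ne' (Nat.dvd_one.1 h2)
    · exact h
  obtain ⟨he1, he2, r₀, X, Y, hr, hXY, hdisj, hXc, hYc, hreg, δ, δ₀, hδ, hδ₀, hsum⟩ :=
    dade_principal (M := M) hM P hc hk1 hk rfl
  have hege := relIndex_ge P hc hx hxP hconj
  have he : (centralizer ((P : Subgroup G) : Set G)).relIndex (normalizer ((P : Subgroup G) : Set G)) = p - 1 :=
    le_antisymm (Nat.le_of_dvd hp0 he1) hege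
  rw [he] at he2 hr hXc
  have hrank : blockRank p (principalBlock M G) = X.card := by rw [he2, hXc]
  have hcard : Nat.card P = p ^ k := hk
  rcases Nat.lt_or_ge 1 k with hk2 | hk2
  · -- `|P| ≥ p²`
    have hpk : p ^ 2 ≤ p ^ k := Nat.pow_le_pow_right hp.out.pos hk2
    have hp2 : 2 ≤ p := hp.out.two_le
    -- more than one exceptional character
    have hr2 : 2 ≤ r₀ := by
      by_contra hlt
      have h1 : r₀ ≤ 1 := by omega
      have h2 : r₀ * (p - 1) ≤ 1 * (p - 1) := Nat.mul_le_mul_right _ h1
      rw [hr, one_mul] at h2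
      have h3 : p ^ 2 = p * p := sq p
      have h4 : 2 * p ≤ p * p := Nat.mul_le_mul_right _ hp2
      omega
    have htriv : trivChar G ∈ X := by
      rcases (hXY (trivChar G)).1 trivChar_mem_principalBlock with h | h
      · exact h
      · exfalso
        have h1 : 1 < Y.card := by omega
        obtain ⟨ψ, hψ, hψt⟩ := Finset.exists_mem_ne h1 (trivChar G)
        apply hψt
        apply eq_triv_of_degree_one hna
        have h2 := hreg ψ hψ _ h 1 reg_one
        simpa using h2
    -- a generator of `P`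
    obtain ⟨g, hg⟩ := IsCyclic.exists_ofOrder_eq_natCard (α := (P : Subgroup G))
    have hg0 : orderOf ((g : (P : Subgroup G)) : G) = p ^ k := by
      rw [Subgroup.orderOf_coe, hg, hk]
    have hgne : p ^ k ≠ p := by
      intro h
      have h3 : p ^ 2 = p * p := sq p
      have h4 : 2 * p ≤ p * p := Nat.mul_le_mul_right _ hp2
      omega
    have hu₀1 : ((g : (P : Subgroup G)) : G) ≠ 1 := by
      intro h
      rw [h, orderOf_one] at hg0
      have h3 : p ^ 2 = p * p := sq p
      have h4 : 2 * p ≤ p * p := Nat.mul_le_mul_right _ hp2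
      omega
    have hnc : ¬ IsConj x ((g : (P : Subgroup G)) : G) := by
      intro h
      obtain ⟨c, hc'⟩ := isConj_iff.1 h
      have h1 : orderOf (c * x * c⁻¹) = p := by
        rw [Cfsg.Agent.Lib.Transfer.Basic.orderOf_conj_eq, hx]
      rw [hc', hg0] at h1
      exact hgne h1
    have hNC0 : NC x ((g : (P : Subgroup G)) : G) = 0 := by
      unfold NC
      rw [Finset.card_eq_zero, Finset.filter_eq_empty_iff]
      intro a' _ h
      obtain ⟨c, hc'⟩ := isConj_iff.1 h
      have h1 : orderOf (c * (a' : G) * c⁻¹) = orderOf (a' : G) := by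
        rw [Cfsg.Agent.Lib.Transfer.Basic.orderOf_conj_eq]
      rw [hc', hg0] at h1
      replace h1 := h1.symm
      have h2 : orderOf (a' : G) ∣ p := by
        have := orderOf_dvd_natCard a'
        rw [← Subgroup.orderOf_coe, Nat.card_zpowers, hx] at this
        exact this
      rw [h1] at h2
      have h3 := Nat.le_of_dvd hp.out.pos h2
      have h5 : p ^ 2 = p * p := sq p
      have h4 : 2 * p ≤ p * p := Nat.mul_le_mul_right _ hp2
      omega
    exact caseA (M := M) hM P hc hH hcyc hna hx hxP hp3 hNC ha hpd hW hXY hdisj hXc hrank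
      (by rw [hYc, hr, hk]) hreg hδ hδ₀ hsum htriv g.2 hu₀1 hnc hNC0
  · -- `|P| = p`
    have hk3 : k = 1 := by omega
    rw [hk3, pow_one] at hcard
    rw [hk3, pow_one] at hr
    have hr1 : r₀ = 1 := by
      have h1 : r₀ * (p - 1) = 1 * (p - 1) := by rw [hr, one_mul]
      exact Nat.eq_of_mul_eq_mul_right hp0 h1
    exact caseB (M := M) hM P hc hH hcyc hna hx hxP hp3 hNC ha hpd hW hXY hdisj hXc hrank hcard
      (by rw [hYc, hr1]) hδ hδ₀ hsum

end Simple

end Cfsg.Agent.Lib.CycBS
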