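import Mathlib
import Cfsg.Prelude.Def_Blocks
import Cfsg.Agent.Lib.CycBS.MOne7

/-!
# Elementary abelian Sylow subgroups whose nonidentity elements are all conjugate: the tools

When the Sylow `p`-subgroup `P` is abelian and the centralizers of elements of `P` have normal `p`-complements,
the principal block sums detect the `p`-sections; and two elements of order `p` generating a `p`-solvable group
generate a group which is a `p`-group modulo its `p'`-core.
-/

set_option autoImplicit false
set_option linter.unusedSectionVars false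
set_option linter.style.haveILetI false

namespace Cfsg.Agent.Lib.CycBS.EA

open Cfsg Subgroup
open Cfsg.Agent.Lib.CycBS
open Cfsg.Agent.Lib.Blocks.Sections Cfsg.Agent.Lib.Blocks.Principal Cfsg.Agent.Lib.Blocks.PrincipalCen
open scoped ComplexConjugate

universe u

section Core

variable {G : Type u} [Group G] [Finite G] {p : ℕ} [hp : Fact p.Prime]

/-- The index of the `p'`-core in a group with a normal `p`-complement containing the Sylow subgroup `P`. -/
theorem index_core_of_complement (P : Sylow p G) {u : G}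
    (hPH : (P : Subgroup G) ≤ centralizer ({u} : Set G))
    (hN : Cfsg.HasNormalPComplement p (centralizer ({u} : Set G))) :
    IsPGroup p (centralizer ({u} : Set G) ⧸ pPrimeCore p (centralizer ({u} : Set G))) ∧
    (pPrimeCore p (centralizer ({u} : Set G))).index = Nat.card P := by
  classical
  set H := centralizer ({u} : Set G) with hH
  obtain ⟨N, hn, h1, h2⟩ :=
    Cfsg.Agent.Lib.Transfer.Basic.hasNormalPComplement_iff.mp hN
  have hle : N ≤ pPrimeCore p H := Cfsg.Agent.Lib.Basic.PCore.le_pPrimeCore hn h1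
  have hcop : (Nat.card (pPrimeCore p H)).Coprime p :=
    Cfsg.Agent.Lib.Solvable.Carter.card_pPrimeCore_coprime p
  have hq : IsPGroup p (H ⧸ pPrimeCore p H) := by
    obtain ⟨k, hk⟩ := IsPGroup.iff_card.mp h2
    have h3 : (pPrimeCore p H).index ∣ N.index := Subgroup.index_dvd_of_le hle
    have h4 : N.index = p ^ k := by rw [Subgroup.index_eq_card]; exact hk
    rw [h4] at h3
    obtain ⟨j, -, hj⟩ := (Nat.dvd_prime_pow hp.out).1 h3
    refine IsPGroup.of_card (n := j) ?_
    rw [← Subgroup.index_eq_card]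
    exact hj
  refine ⟨hq, ?_⟩
  let S : Sylow p H := P.subtype hPH
  have hS : Nat.card S = Nat.card P := by
    show Nat.card (S : Subgroup H) = _
    rw [show (S : Subgroup H) = (P : Subgroup G).subgroupOf H from Sylow.coe_subtype _ _]
    exact Nat.card_congr (Subgroup.subgroupOfEquivOfLe hPH).toEquiv
  have := Cfsg.Agent.Lib.Transfer.Basic.isComplement'_of_coprime_of_isPGroup S hcop hq
  rw [this.symm.index_eq_card]
  exact hS

/-- Commutativity passes to every Sylow subgroup. -/
lemma sylow_comm (P : Sylow p G) (hab : ∀ a ∈ (P : Subgroup G), ∀ b ∈ (P : Subgroup G), a * b = b * a)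
    (Q : Sylow p G) : ∀ a ∈ (Q : Subgroup G), ∀ b ∈ (Q : Subgroup G), a * b = b * a := by
  obtain ⟨g, rfl⟩ := MulAction.exists_smul_eq G P Q
  intro a ha b hb
  rw [Sylow.coe_subgroup_smul, Subgroup.mem_pointwise_smul_iff_inv_smul_mem] at ha hb
  have h := hab _ ha _ hb
  simp only [MulAut.smul_def, MulAut.conj_inv_apply] at h
  have h2 : g * (g⁻¹ * a * g * (g⁻¹ * b * g)) * g⁻¹ = g * (g⁻¹ * b * g * (g⁻¹ * a * g)) * g⁻¹ := by rw [h]
  simpa [mul_assoc] using h2

/-- A `p`-element lies in a conjugate of `P`. -/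
lemma exists_conj_mem_of_order (P : Sylow p G) {v : G} {k : ℕ} (hk : orderOf v = p ^ k) :
    ∃ c : G, ∃ u ∈ (P : Subgroup G), c * v * c⁻¹ = u := by
  have hvp : IsPGroup p (zpowers v) := by
    apply IsPGroup.of_card (n := k)
    rw [Nat.card_zpowers, hk]
  obtain ⟨Q, hQ⟩ := hvp.exists_le_sylow
  obtain ⟨g, hg⟩ := MulAction.exists_smul_eq G Q P
  refine ⟨g, g * v * g⁻¹, ?_, rfl⟩
  rw [← hg, Sylow.coe_subgroup_smul]
  exact Subgroup.smul_mem_pointwise_smul v (MulAut.conj g) _ (hQ (mem_zpowers v))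

/-- A `p`-solvable group with abelian Sylow subgroups generated by two `p`-elements is a `p`-group modulo
its `p'`-core. -/
theorem quot_isPGroup {H : Type u} [Group H] [Finite H]
    (hab : ∀ Q : Sylow p H, ∀ a ∈ (Q : Subgroup H), ∀ b ∈ (Q : Subgroup H), a * b = b * a)
    (hsol : IsPSolvable p H) {x s : H} (hx : orderOf x = p) (hs : orderOf s = p)
    (hgen : closure ({x, s} : Set H) = ⊤) : IsPGroup p (H ⧸ pPrimeCore p H) := by
  classical
  set K := pPrimeCore p H with hK
  have hcore : pPrimeCore p (H ⧸ K) = ⊥ := Cfsg.Agent.Lib.Solvable.PSeries.pPrimeCore_quotient p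
  have hsolQ := Cfsg.Agent.Lib.Coprime.PSolvable.isPSolvable_quotient hp.out K hsol
  have hC := Cfsg.Agent.Lib.Solvable.PSeries.centralizer_pCore_le hsolQ hcore
  set O := pCore p (H ⧸ K) with hO
  -- every Sylow subgroup of the quotient is `O`
  have hTO : ∀ T : Sylow p (H ⧸ K), (T : Subgroup (H ⧸ K)) ≤ O := by
    intro T
    refine le_trans ?_ hC
    intro t ht
    rw [mem_centralizer_iff]
    intro o ho
    have hoT : o ∈ (T : Subgroup (H ⧸ K)) := Cfsg.Agent.Lib.Basic.PCore.pCore_le_sylow T ho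
    obtain ⟨Q, rfl⟩ := Sylow.mapSurjective_surjective (QuotientGroup.mk'_surjective K) p T
    have hcoe : ((Sylow.mapSurjective (QuotientGroup.mk'_surjective K) Q : Sylow p (H ⧸ K)) : Subgroup (H ⧸ K)) =
        (Q : Subgroup H).map (QuotientGroup.mk' K) := rfl
    rw [hcoe] at hoT ht
    obtain ⟨a, ha, rfl⟩ := hoT
    obtain ⟨b, hb, rfl⟩ := ht
    rw [← map_mul, ← map_mul, hab Q a ha b hb]
  have hpO : ∀ y : H, ∀ k : ℕ, orderOf y = p ^ k → (QuotientGroup.mk y : H ⧸ K) ∈ O := by
    intro y k hy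
    have hpy : IsPGroup p (zpowers (QuotientGroup.mk y : H ⧸ K)) := by
      have h1 : orderOf (QuotientGroup.mk y : H ⧸ K) ∣ p ^ k := by
        rw [← hy]
        exact orderOf_map_dvd (QuotientGroup.mk' K) y
      obtain ⟨j, -, hj⟩ := (Nat.dvd_prime_pow hp.out).1 h1
      apply IsPGroup.of_card (n := j)
      rw [Nat.card_zpowers, hj]
    obtain ⟨T, hT⟩ := hpy.exists_le_sylow
    exact hTO T (hT (mem_zpowers _))
  have hall : ∀ y : H, (QuotientGroup.mk y : H ⧸ K) ∈ O := by
    intro y
    have hy : y ∈ closure ({x, s} : Set H) := by rw [hgen]; exact mem_top y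
    induction hy using closure_induction with
    | mem y hy =>
      rcases hy with rfl | hy
      · exact hpO _ 1 (by rw [hx, pow_one])
      · rw [Set.mem_singleton_iff] at hy
        subst hy
        exact hpO _ 1 (by rw [hs, pow_one])
    | one => exact one_mem _
    | mul a b _ _ ha hb => exact mul_mem ha hb
    | inv a _ ha => exact inv_mem ha
  have hOtop : O = ⊤ := by
    rw [eq_top_iff]
    intro q _
    obtain ⟨y, rfl⟩ := QuotientGroup.mk_surjective q
    exact hall y
  have hpO' : IsPGroup p O := Cfsg.Agent.Lib.Basic.PCore.pCore_isPGroup p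
  rw [hOtop] at hpO'
  exact hpO'.of_equiv Subgroup.topEquiv

/-- **The pair lemma.** At most one element `a` of `⟨x⟩` has `a⁻¹ s` a `p`-regular element. -/
theorem pair_unique (hab : ∀ Q : Sylow p G, ∀ a ∈ (Q : Subgroup G), ∀ b ∈ (Q : Subgroup G), a * b = b * a)
    {x s : G} (hx : orderOf x = p) (hs : orderOf s = p) (hsol : IsPSolvable p (closure ({x, s} : Set G)))
    {a b : G} (ha : a ∈ zpowers x) (hb : b ∈ zpowers x) (hpa : ¬ p ∣ orderOf (a⁻¹ * s))
    (hpb : ¬ p ∣ orderOf (b⁻¹ * s)) : a = b := by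
  classical
  set H := closure ({x, s} : Set G) with hH
  have hxH : x ∈ H := subset_closure (Set.mem_insert _ _)
  have hsH : s ∈ H := subset_closure (Set.mem_insert_of_mem _ (Set.mem_singleton _))
  let x' : H := ⟨x, hxH⟩
  let s' : H := ⟨s, hsH⟩
  have hx' : orderOf x' = p := by rw [Subgroup.orderOf_mk, hx]
  have hs' : orderOf s' = p := by rw [Subgroup.orderOf_mk, hs]
  have hgen : closure ({x', s'} : Set H) = ⊤ := by
    have h1 := Subgroup.closure_closure_coe_preimage (k := ({x, s} : Set G))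
    have h2 : ((↑) : closure ({x, s} : Set G) → G) ⁻¹' ({x, s} : Set G) = ({x', s'} : Set H) := by
      ext y
      simp only [Set.mem_preimage, Set.mem_insert_iff, Set.mem_singleton_iff]
      constructor
      · rintro (h | h)
        · exact Or.inl (Subtype.ext h)
        · exact Or.inr (Subtype.ext h)
      · rintro (h | h)
        · exact Or.inl (congrArg Subtype.val h)
        · exact Or.inr (congrArg Subtype.val h)
    rw [h2] at h1
    exact h1
  have habH : ∀ Q : Sylow p H, ∀ a ∈ (Q : Subgroup H), ∀ b ∈ (Q : Subgroup H), a * b = b * a := by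
    intro Q c hc d hd
    obtain ⟨R, hR⟩ := Cfsg.Agent.Lib.Basic.SylowUtil.exists_sylow_ge_map (p := p) Q
    apply Subtype.ext
    exact hab R _ (hR ⟨c, hc, rfl⟩) _ (hR ⟨d, hd, rfl⟩)
  have hq := quot_isPGroup habH hsol hx' hs' hgen
  set K := pPrimeCore p H with hK
  have hcop : (Nat.card K).Coprime p := Cfsg.Agent.Lib.Solvable.Carter.card_pPrimeCore_coprime p
  have hzH : zpowers x ≤ H := zpowers_le.2 hxH
  have haH : a ∈ H := hzH ha
  have hbH : b ∈ H := hzH hb
  have hmem : ∀ c (hc : c ∈ H), ¬ p ∣ orderOf (c⁻¹ * s) → (⟨c⁻¹ * s, H.mul_mem (H.inv_mem hc) hsH⟩ : H) ∈ K := by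
    intro c hc hpc
    rw [Cfsg.Agent.Lib.Transfer.Basic.mem_iff_coprime_of_normal _ hcop hq, Subgroup.orderOf_mk,
      Nat.coprime_comm, Nat.Prime.coprime_iff_not_dvd hp.out]
    exact hpc
  have h1 := hmem a haH hpa
  have h2 := hmem b hbH hpb
  have h3 := K.mul_mem h1 (K.inv_mem h2)
  by_contra hne
  set w : H := ⟨a⁻¹ * b, H.mul_mem (H.inv_mem haH) hbH⟩ with hw
  have hw1 : (⟨a⁻¹ * s, H.mul_mem (H.inv_mem haH) hsH⟩ : H) * (⟨b⁻¹ * s, H.mul_mem (H.inv_mem hbH) hsH⟩ : H)⁻¹ = w := by
    apply Subtype.ext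
    show a⁻¹ * s * (b⁻¹ * s)⁻¹ = a⁻¹ * b
    group
  rw [hw1] at h3
  have hwo : orderOf w = p := by
    rw [hw, Subgroup.orderOf_mk]
    have h5 : a⁻¹ * b ∈ zpowers x := mul_mem (inv_mem ha) hb
    have h6 : orderOf (a⁻¹ * b) ∣ p := by
      have := orderOf_dvd_natCard (⟨a⁻¹ * b, h5⟩ : zpowers x)
      rw [Subgroup.orderOf_mk, Nat.card_zpowers, hx] at this
      exact this
    refine ((Nat.dvd_prime hp.out).1 h6).resolve_left fun h7 => hne ?_
    have h8 := orderOf_eq_one_iff.1 h7
    exact (inv_mul_eq_one.1 h8)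
  exact not_mem_core_of_order hwo h3

end Core

section Sum

variable {G : Type u} [Group G] [Fintype G] {M : Ideal AlgInt} [hMp : M.IsPrime] {p : ℕ} [hp : Fact p.Prime]

open Classical in
/-- **The section sum.** -/
theorem section_sum_of_complement (hM : IsPModular p M) (P : Sylow p G) {u : G}
    (huP : u ∈ (P : Subgroup G)) (hPH : (P : Subgroup G) ≤ centralizer ({u} : Set G))
    (hN : Cfsg.HasNormalPComplement p (centralizer ({u} : Set G))) {g v : G} (hgv : IsPPart p g v) :
    ∑ χ ∈ Finset.univ.filter (· ∈ principalBlock M G), (χ : G → ℂ) g * conj ((χ : G → ℂ) u) =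
      if IsConj v u then (Nat.card P : ℂ) else 0 := by
  obtain ⟨k, hk⟩ := exists_order_of_mem P huP
  split_ifs with hconj
  · obtain ⟨w, hvw, hcomm, -, hw⟩ := hgv
    obtain ⟨c, hc'⟩ := isConj_iff.1 hconj
    -- `c v c⁻¹ = u`
    set z : G := c * w * c⁻¹ with hz
    have hzu : z ∈ centralizer ({u} : Set G) := by
      rw [mem_centralizer_iff]
      intro t ht
      rw [Set.mem_singleton_iff] at ht
      subst ht
      rw [← hc', hz]
      have := hcomm.eq
      calc c * v * c⁻¹ * (c * w * c⁻¹) = c * (v * w) * c⁻¹ := by group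
        _ = c * (w * v) * c⁻¹ := by rw [this]
        _ = c * w * c⁻¹ * (c * v * c⁻¹) := by group
    letI : Fintype (centralizer ({u} : Set G)) := Fintype.ofFinite _
    have hordz : orderOf z = orderOf w := Cfsg.Agent.Lib.Transfer.Basic.orderOf_conj_eq c w
    obtain ⟨hq, hidx⟩ := index_core_of_complement P hPH hN
    have hcop : (Nat.card (pPrimeCore p (centralizer ({u} : Set G)))).Coprime p :=
      Cfsg.Agent.Lib.Solvable.Carter.card_pPrimeCore_coprime p
    have hzcore : (⟨z, hzu⟩ : centralizer ({u} : Set G)) ∈ pPrimeCore p (centralizer ({u} : Set G)) := by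
      rw [Cfsg.Agent.Lib.Transfer.Basic.mem_iff_coprime_of_normal _ hcop hq, Subgroup.orderOf_mk, hordz,
        Nat.coprime_comm, Nat.Prime.coprime_iff_not_dvd hp.out]
      exact hw
    have hval : ∀ χ ∈ Finset.univ.filter (· ∈ principalBlock M G), (χ : G → ℂ) g = (χ : G → ℂ) u := by
      intro χ hχ
      have h1 := apply_mul_core hM hk hzcore (Finset.mem_filter.1 hχ).2
      have h2 : (χ : G → ℂ) g = (χ : G → ℂ) (u * z) := by
        have h3 : u * z = c * g * c⁻¹ := by
          rw [← hc', ← hvw, hz]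
          group
        rw [h3]
        have := Cfsg.Agent.Lib.Char.CompleteCor.irr_apply_of_isConj (χ := χ)
          (isConj_iff.2 ⟨c, rfl⟩ : IsConj g (c * g * c⁻¹))
        exact this
      rw [h2]
      exact h1
    rw [Finset.sum_congr rfl fun χ hχ => by rw [hval χ hχ]]
    have h3 := sum_principal_eq hM hk (1 : centralizer ({u} : Set G)) (by
      rw [orderOf_one]
      exact hp.out.one_lt.ne' ∘ Nat.dvd_one.mp)
    simp only [OneMemClass.coe_one, mul_one] at h3
    rw [h3]
    obtain ⟨j, hj⟩ := IsPGroup.iff_card.mp P.isPGroup'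
    have hidx' : (pPrimeCore p (centralizer ({u} : Set G))).index = p ^ j := by
      rw [hidx]; exact hj
    have h4 := sum_principal_eq_index (G := centralizer ({u} : Set G)) (M := M) hM hidx'
      (y := 1) (by
        rw [orderOf_one]
        exact hp.out.one_lt.ne' ∘ Nat.dvd_one.mp)
    rw [h4]
    have : Nat.card P = p ^ j := hj
    rw [this]
  · have hoP : ∃ k, orderOf u = p ^ k := ⟨k, hk⟩
    have h := block_orthogonality hM hgv (Cfsg.Agent.Lib.Blocks.PrincipalColumn.isPPart_self hk) hconj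
      (isPBlock_principalBlock M)
    rw [Cfsg.Agent.Lib.Blocks.Osima.finsum_mem_eq_sum_filter] at h
    rw [← h]
    refine Finset.sum_congr rfl fun χ _ => ?_
    rw [Cfsg.Agent.Lib.Char.Complete.isIrr_inv χ.2]

open Classical in
/-- When all the nonidentity elements of `P` are conjugate, the principal block sum over `G` is supported on the
`p`-singular elements, with constant value `|P|`. -/
theorem nu_formula (hM : IsPModular p M) (P : Sylow p G)
    (hab : ∀ a ∈ (P : Subgroup G), ∀ b ∈ (P : Subgroup G), a * b = b * a)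
    (hconjP : ∀ x ∈ (P : Subgroup G), ∀ y ∈ (P : Subgroup G), x ≠ 1 → y ≠ 1 → ∃ g : G, g * x * g⁻¹ = y)
    {x : G} (hxP : x ∈ (P : Subgroup G)) (hx1 : x ≠ 1)
    (hN : Cfsg.HasNormalPComplement p (centralizer ({x} : Set G))) (g : G) :
    ∑ χ ∈ Finset.univ.filter (· ∈ principalBlock M G), (χ : G → ℂ) g * conj ((χ : G → ℂ) x) =
      if p ∣ orderOf g then (Nat.card P : ℂ) else 0 := by
  have hPH : (P : Subgroup G) ≤ centralizer ({x} : Set G) := by
    intro h hh
    rw [mem_centralizer_iff]
    intro t ht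
    rw [Set.mem_singleton_iff] at ht
    subst ht
    exact hab _ hxP _ hh
  obtain ⟨v, hv⟩ := Cfsg.Agent.Lib.Blocks.SecondMain.exists_isPPart p g
  rw [section_sum_of_complement hM P hxP hPH hN hv]
  obtain ⟨w, hvw, hcomm, ⟨k, hk⟩, hw⟩ := hv
  by_cases hv1 : v = 1
  · subst hv1
    have hg : g = w := by rw [← hvw, one_mul]
    subst hg
    have hnc : ¬ IsConj (1 : G) x := fun h => hx1 (isConj_one_right.1 h)
    rw [if_neg hnc, if_neg hw]
  · have hcoj : IsConj v x := by
      obtain ⟨c, u, huP, hu⟩ := exists_conj_mem_of_order P hk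
      have hu1 : u ≠ 1 := by
        rintro rfl
        apply hv1
        have h1 : c * v * c⁻¹ = c * 1 * c⁻¹ := by rw [hu]; group
        simpa using h1
      obtain ⟨d, hd⟩ := hconjP u huP x hxP hu1 hx1
      refine isConj_iff.2 ⟨d * c, ?_⟩
      rw [← hd, ← hu]
      group
    have hco : (orderOf v).Coprime (orderOf w) := by
      rw [hk]
      exact Nat.Coprime.pow_left k ((Nat.Prime.coprime_iff_not_dvd hp.out).2 hw)
    have hvz := (parts_mem_zpowers hcomm hco).1
    rw [hvw] at hvz
    have hd : orderOf v ∣ orderOf g := by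
      have h1 := orderOf_dvd_natCard (⟨v, hvz⟩ : zpowers g)
      rwa [Subgroup.orderOf_mk, Nat.card_zpowers] at h1
    have hk1 : k ≠ 0 := by
      rintro rfl
      rw [pow_zero] at hk
      exact hv1 (orderOf_eq_one_iff.1 hk)
    have hpd : p ∣ orderOf g := by
      refine dvd_trans ?_ hd
      rw [hk]
      exact dvd_pow_self p hk1
    rw [if_pos hcoj, if_pos hpd]

end Sum

end Cfsg.Agent.Lib.CycBS.EA
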