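import Mathlib
import Cfsg.Prelude.Def_Blocks
import Cfsg.Agent.Lib.CycBS.EA1

/-!
# Elementary abelian Sylow subgroups whose nonidentity elements are all conjugate: the contradiction for odd `p`
-/

set_option autoImplicit false
set_option linter.unusedSectionVars false
set_option linter.style.haveILetI false

namespace Cfsg.Agent.Lib.CycBS.EA

open Cfsg Subgroup
open Cfsg.Agent.Lib.CycBS
open Cfsg.Agent.Lib.Blocks.Sections Cfsg.Agent.Lib.Blocks.Principal Cfsg.Agent.Lib.Blocks.PrincipalCen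
open scoped ComplexConjugate

universe u

section Master

variable {G : Type u} [Group G] [Fintype G] {M : Ideal AlgInt} [hMp : M.IsPrime] {p : ℕ} [hp : Fact p.Prime]

/-- At least `p - 1` of the elements `a⁻¹ s` are `p`-singular. -/
lemma card_singular_ge (hab : ∀ Q : Sylow p G, ∀ a ∈ (Q : Subgroup G), ∀ b ∈ (Q : Subgroup G), a * b = b * a)
    {x s : G} (hx : orderOf x = p) (hs : orderOf s = p) (hsol : IsPSolvable p (closure ({x, s} : Set G)))
    [Fintype (zpowers x)] [DecidablePred fun a : zpowers x => p ∣ orderOf ((a : G)⁻¹ * s)] :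
    p - 1 ≤ (Finset.univ.filter fun a : zpowers x => p ∣ orderOf ((a : G)⁻¹ * s)).card := by
  classical
  have hcard : Fintype.card (zpowers x) = p := by
    rw [← Nat.card_eq_fintype_card, Nat.card_zpowers, hx]
  have h1 := Finset.card_filter_add_card_filter_not (s := (Finset.univ : Finset (zpowers x)))
    (fun a : zpowers x => p ∣ orderOf ((a : G)⁻¹ * s))
  have h2 : (Finset.univ.filter fun a : zpowers x => ¬ p ∣ orderOf ((a : G)⁻¹ * s)).card ≤ 1 := by
    refine Finset.card_le_one.2 fun a ha b hb => Subtype.ext ?_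
    exact pair_unique hab hx hs hsol a.2 b.2 (Finset.mem_filter.1 ha).2 (Finset.mem_filter.1 hb).2
  rw [Finset.card_univ, hcard] at h1
  omega

open Classical in
/-- **The master identity.** -/
theorem ea_master (hM : IsPModular p M) (P : Sylow p G)
    (hab : ∀ a ∈ (P : Subgroup G), ∀ b ∈ (P : Subgroup G), a * b = b * a)
    (hconjP : ∀ x ∈ (P : Subgroup G), ∀ y ∈ (P : Subgroup G), x ≠ 1 → y ≠ 1 → ∃ g : G, g * x * g⁻¹ = y)
    (hH : PairHyp p G) {x : G} (hxP : x ∈ (P : Subgroup G)) (hx : orderOf x = p)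
    (hN : Cfsg.HasNormalPComplement p (centralizer ({x} : Set G))) [Fintype (zpowers x)] :
    ∃ n m : ℕ, 0 < m ∧ (p - 1) * m ≤ n ∧
      (m : ℂ) * ∑ χ ∈ Finset.univ.filter (· ∈ principalBlock M G),
          (conj ((χ : G → ℂ) x) * (χ : G → ℂ) x) * W (1 : zpowers x →* ℂ) (χ : G → ℂ) =
        (Nat.card P : ℂ) * n := by
  set S := Cfsg.Agent.Lib.Char.Integrality.classFinset x with hS
  have hx1 : x ≠ 1 := by
    rintro rfl
    rw [orderOf_one] at hx
    exact hp.out.one_lt.ne hx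
  have hSo : ∀ s ∈ S, orderOf s = p := by
    intro s hs
    obtain ⟨c, hc'⟩ := isConj_iff.1 ((Cfsg.Agent.Lib.Char.Integrality.mem_classFinset x s).1 hs)
    rw [← hc', Cfsg.Agent.Lib.Transfer.Basic.orderOf_conj_eq, hx]
  have habQ := sylow_comm P hab
  refine ⟨∑ s ∈ S, (Finset.univ.filter fun a : zpowers x => p ∣ orderOf ((a : G)⁻¹ * s)).card, S.card, ?_, ?_, ?_⟩
  · exact Finset.card_pos.2 ⟨x, (Cfsg.Agent.Lib.Char.Integrality.mem_classFinset x x).2 (IsConj.refl x)⟩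
  · rw [mul_comm, ← smul_eq_mul]
    refine Finset.card_nsmul_le_sum _ _ _ fun s hs => ?_
    exact card_singular_ge habQ hx (hSo s hs) (hH x s hx (hSo s hs))
  set lam : zpowers x →* ℂ := 1 with hlam
  have h1 : ∑ s ∈ S, ∑ a : zpowers x, lam a * ∑ χ ∈ Finset.univ.filter (· ∈ principalBlock M G),
        (χ : G → ℂ) ((a : G)⁻¹ * s) * conj ((χ : G → ℂ) x) =
      (Nat.card P : ℂ) * ((∑ s ∈ S, (Finset.univ.filter fun a : zpowers x => p ∣ orderOf ((a : G)⁻¹ * s)).card : ℕ) : ℂ) := by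
    push_cast
    rw [Finset.mul_sum]
    refine Finset.sum_congr rfl fun s _ => ?_
    have h2 : ∀ a : zpowers x, lam a * ∑ χ ∈ Finset.univ.filter (· ∈ principalBlock M G),
        (χ : G → ℂ) ((a : G)⁻¹ * s) * conj ((χ : G → ℂ) x) =
        if p ∣ orderOf ((a : G)⁻¹ * s) then (Nat.card P : ℂ) else 0 := by
      intro a
      rw [nu_formula hM P hab hconjP hxP hx1 hN, hlam, MonoidHom.one_apply, one_mul]
    rw [Finset.sum_congr rfl fun a _ => h2 a, ← Finset.sum_filter, Finset.sum_const, nsmul_eq_mul, mul_comm]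
  have h2 : ∑ s ∈ S, ∑ a : zpowers x, lam a * ∑ χ ∈ Finset.univ.filter (· ∈ principalBlock M G),
        (χ : G → ℂ) ((a : G)⁻¹ * s) * conj ((χ : G → ℂ) x) =
      ((S.card : ℕ) : ℂ) * ∑ χ ∈ Finset.univ.filter (· ∈ principalBlock M G),
          (conj ((χ : G → ℂ) x) * (χ : G → ℂ) x) * W lam (χ : G → ℂ) := by
    have h3 : ∀ χ : IrrCharacter G, ∑ s ∈ S, ∑ a : zpowers x, lam a * ((χ : G → ℂ) ((a : G)⁻¹ * s) * conj ((χ : G → ℂ) x)) =
        ((S.card : ℕ) : ℂ) * ((conj ((χ : G → ℂ) x) * (χ : G → ℂ) x) * W lam (χ : G → ℂ)) := by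
      intro χ
      rw [Finset.sum_comm]
      have h4 : ∀ a : zpowers x, ∑ s ∈ S, lam a * ((χ : G → ℂ) ((a : G)⁻¹ * s) * conj ((χ : G → ℂ) x)) =
          lam a * conj ((χ : G → ℂ) x) * (((S.card : ℕ) : ℂ) * (χ : G → ℂ) x / (χ : G → ℂ) 1 * (χ : G → ℂ) ((a : G)⁻¹)) := by
        intro a
        have h5 := Cfsg.Agent.Lib.WeakClosed.BlockStat.sum_class x ((a : G)⁻¹) χ
        rw [← Cfsg.Agent.Lib.Char.Integrality.card_classFinset, ← hS] at h5
        rw [← h5, Finset.mul_sum]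
        refine Finset.sum_congr rfl fun s _ => ?_
        rw [irr_mul_comm χ ((a : G)⁻¹) s]
        ring
      rw [Finset.sum_congr rfl fun a _ => h4 a, W, Finset.sum_div, Finset.mul_sum, Finset.mul_sum]
      refine Finset.sum_congr rfl fun a _ => ?_
      ring
    simp only [Finset.mul_sum (s := Finset.univ.filter (· ∈ principalBlock M G))]
    rw [Finset.sum_congr rfl fun s _ => Finset.sum_comm]
    rw [Finset.sum_comm]
    exact Finset.sum_congr rfl fun χ _ => h3 χ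
  rw [← h2, h1]

/-- The twisted sum of a character constant on the nonidentity elements of a subgroup. -/
lemma sum_subgroup_const (A : Subgroup G) [Fintype A] {χ : G → ℂ} {c : ℂ}
    (hχ : ∀ u ∈ A, u ≠ 1 → χ u = c) :
    ∑ a : A, (1 : A →* ℂ) a * χ ((a : G)⁻¹) = c * (Nat.card A : ℂ) + (χ 1 - c) := by
  classical
  have h1 : ∀ a : A, (1 : A →* ℂ) a * χ ((a : G)⁻¹) = c + if a = 1 then χ 1 - c else 0 := by
    intro a
    by_cases ha : a = 1
    · subst ha
      simp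
    · have h2 : ((a : G)⁻¹) ≠ 1 := by
        simpa using fun h => ha (Subtype.ext h)
      rw [hχ _ (inv_mem a.2) h2, if_neg ha]
      simp
  rw [Finset.sum_congr rfl fun a _ => h1 a, Finset.sum_add_distrib]
  simp [Finset.card_univ, Nat.card_eq_fintype_card, mul_comm]

/-- Arithmetic of the value of a nontrivial character. -/
lemma term_bound {a d c t : ℤ} (hc : 9 ≤ c) (hd : 0 < d) (hsq : a ^ 2 ≤ c) (hdt : d = a + c * t) (hne : d ≠ a)
    (ha : 0 < a) : (a : ℝ) ^ 3 / (d : ℝ) ≤ (a : ℝ) ^ 2 / 4 := by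
  have hac : a ≤ c := by nlinarith
  have ht : 1 ≤ t := by
    by_contra h
    have h1 : t ≤ 0 := by omega
    rcases h1.lt_or_eq with h2 | h2
    · have h3 : t ≤ -1 := by omega
      nlinarith
    · apply hne
      rw [hdt, h2]
      ring
  have h3a : 3 * a ≤ c := by
    by_contra h
    have h1 : c < 3 * a := by omega
    have h2 : a < 3 := by nlinarith
    omega
  have h4 : 4 * a ≤ d := by nlinarith
  have hdR : (0 : ℝ) < (d : ℝ) := by exact_mod_cast hd
  have h4R : 4 * (a : ℝ) ≤ (d : ℝ) := by exact_mod_cast h4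
  rw [div_le_iff₀ hdR]
  have haR : (0 : ℝ) ≤ (a : ℝ) ^ 2 := by positivity
  nlinarith

set_option maxHeartbeats 2000000 in
open Classical in
/-- **The contradiction for odd `p`**, when `|P| ≥ 9`. -/
theorem false_of_ea [IsSimpleGroup G] (hp3 : 3 ≤ p) (P : Sylow p G)
    (hab : ∀ a ∈ (P : Subgroup G), ∀ b ∈ (P : Subgroup G), a * b = b * a)
    (hconjP : ∀ x ∈ (P : Subgroup G), ∀ y ∈ (P : Subgroup G), x ≠ 1 → y ≠ 1 → ∃ g : G, g * x * g⁻¹ = y)
    (hH : PairHyp p G) {x : G} (hxP : x ∈ (P : Subgroup G)) (hx : orderOf x = p)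
    (hN : Cfsg.HasNormalPComplement p (centralizer ({x} : Set G))) (hc9 : 9 ≤ Nat.card P) : False := by
  obtain ⟨M, hM⟩ := Cfsg.Agent.Lib.Blocks.ClassIndep.exists_modular p hp.out
  haveI hMp : M.IsPrime := hM.2.1.isPrime
  letI : Fintype (zpowers x) := Fintype.ofFinite _
  letI : Fintype (P : Subgroup G) := Fintype.ofFinite _
  have hx1 : x ≠ 1 := by
    rintro rfl
    rw [orderOf_one] at hx
    exact hp.out.one_lt.ne hx
  have hconjPx : ∀ u ∈ (P : Subgroup G), u ≠ 1 → IsConj u x := by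
    intro u hu hu1
    obtain ⟨g, hg⟩ := hconjP u hu x hxP hu1 hx1
    exact isConj_iff.2 ⟨g, hg⟩
  have hconj' : ∀ u ∈ zpowers x, u ≠ 1 → IsConj u x := fun u hu hu1 =>
    hconjPx u ((zpowers_le.2 hxP) hu) hu1
  choose a ha hpd hW using exists_int_value (G := G) hx hconj'
  set c : ℕ := Nat.card P with hc
  set B := Finset.univ.filter (· ∈ principalBlock M G) with hB
  -- the sum of the squares
  have hsq : ∑ χ ∈ B, (a χ) ^ 2 = (c : ℤ) := by
    have h := nu_formula hM P hab hconjP hxP hx1 hN x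
    rw [if_pos (by rw [hx])] at h
    have h1 : ((∑ χ ∈ B, (a χ) ^ 2 : ℤ) : ℂ) = ((c : ℤ) : ℂ) := by
      push_cast
      rw [hc, ← h]
      refine Finset.sum_congr rfl fun χ _ => ?_
      rw [ha, map_intCast, sq]
    exact_mod_cast h1
  have hsq1 : ∀ χ ∈ B, (a χ) ^ 2 ≤ (c : ℤ) := by
    intro χ hχ
    rw [← hsq]
    exact Finset.single_le_sum (f := fun χ => (a χ) ^ 2) (fun _ _ => sq_nonneg _) hχ
  -- the degree is congruent to the value mod `|P|`
  have hcong : ∀ χ : IrrCharacter G, ∃ t : ℤ, (charDegree (χ : G → ℂ) : ℤ) = a χ + (c : ℤ) * t := by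
    intro χ
    obtain ⟨n, hn⟩ := exists_nat_sum_irr (P : Subgroup G) (1 : (P : Subgroup G) →* ℂ) χ
    have hconst : ∀ u ∈ (P : Subgroup G), u ≠ 1 → (χ : G → ℂ) u = (a χ : ℂ) := fun u hu hu1 => by
      rw [← ha]
      exact Cfsg.Agent.Lib.Char.CompleteCor.irr_apply_of_isConj (hconjPx u hu hu1) χ
    rw [sum_subgroup_const _ hconst, charDeg_cast] at hn
    refine ⟨(n : ℤ) - a χ, ?_⟩
    have h1 : (a χ : ℂ) * (c : ℂ) + ((charDegree (χ : G → ℂ) : ℕ) - (a χ : ℂ)) = (c : ℂ) * n := hn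
    have h2 : (a χ : ℤ) * (c : ℤ) + ((charDegree (χ : G → ℂ) : ℤ) - a χ) = (c : ℤ) * n := by
      exact_mod_cast h1
    linarith
  have hc9' : (9 : ℤ) ≤ (c : ℤ) := by exact_mod_cast hc9
  -- the bound on each term
  have hterm : ∀ χ ∈ B, (a χ : ℝ) ^ 3 / ((charDegree (χ : G → ℂ) : ℕ) : ℝ) ≤
      (a χ : ℝ) ^ 2 / 4 + if χ = trivChar G then 3 / 4 else 0 := by
    intro χ hχ
    have hdpos := charDeg_pos χ
    by_cases ht : χ = trivChar G
    · subst ht
      have h1 : a (trivChar G) = 1 := by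
        have h2 := ha (trivChar G)
        simp only [coe_trivChar] at h2
        exact_mod_cast h2.symm
      have h2 : charDegree ((trivChar G : IrrCharacter G) : G → ℂ) = 1 := by
        have h3 := charDeg_cast (trivChar G)
        simp only [coe_trivChar] at h3
        exact_mod_cast h3.symm
      rw [h1, h2, if_pos rfl]
      norm_num
    · rw [if_neg ht, add_zero]
      by_cases ha0 : 0 < a χ
      · obtain ⟨t, hdt⟩ := hcong χ
        have hne : (charDegree (χ : G → ℂ) : ℤ) ≠ a χ := by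
          intro h
          apply ht
          apply eq_triv_of_simple χ hx1
          rw [charDeg_cast, ha, ← h]
          simp
        have := term_bound hc9' (by exact_mod_cast hdpos) (hsq1 χ hχ) hdt hne ha0
        exact_mod_cast this
      · have h1 : (a χ : ℝ) ≤ 0 := by
          have : a χ ≤ 0 := not_lt.1 ha0
          exact_mod_cast this
        have h2 : (a χ : ℝ) ^ 3 ≤ 0 := by
          have : (a χ : ℝ) ^ 3 = (a χ : ℝ) * (a χ : ℝ) ^ 2 := by ring
          rw [this]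
          exact mul_nonpos_of_nonpos_of_nonneg h1 (sq_nonneg _)
        have h3 : (a χ : ℝ) ^ 3 / ((charDegree (χ : G → ℂ) : ℕ) : ℝ) ≤ 0 :=
          div_nonpos_of_nonpos_of_nonneg h2 (Nat.cast_nonneg _)
        have h4 : (0 : ℝ) ≤ (a χ : ℝ) ^ 2 / 4 := by positivity
        linarith
  set T : ℝ := ∑ χ ∈ B, (a χ : ℝ) ^ 3 / ((charDegree (χ : G → ℂ) : ℕ) : ℝ) with hT
  have hcR : ∑ χ ∈ B, (a χ : ℝ) ^ 2 = (c : ℝ) := by
    have : ((∑ χ ∈ B, (a χ) ^ 2 : ℤ) : ℝ) = ((c : ℤ) : ℝ) := by rw [hsq]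
    push_cast at this
    exact this
  have hTu : T ≤ (c : ℝ) / 4 + 3 / 4 := by
    have h1 := Finset.sum_le_sum hterm
    rw [Finset.sum_add_distrib, ← Finset.sum_div, hcR, Finset.sum_ite_eq'] at h1
    split_ifs at h1
    · exact h1
    · linarith
  -- the lower bound
  obtain ⟨n, m, hm, hnm, hEq⟩ := ea_master hM P hab hconjP hH hxP hx hN
  have hsum : ∑ χ ∈ B, (conj ((χ : G → ℂ) x) * (χ : G → ℂ) x) * W (1 : zpowers x →* ℂ) (χ : G → ℂ) =
      (((p : ℝ) - 1) * T + (c : ℝ) : ℝ) := by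
    have h1 : ∀ χ ∈ B, (conj ((χ : G → ℂ) x) * (χ : G → ℂ) x) * W (1 : zpowers x →* ℂ) (χ : G → ℂ) =
        (((p : ℝ) - 1) * ((a χ : ℝ) ^ 3 / ((charDegree (χ : G → ℂ) : ℕ) : ℝ)) + (a χ : ℝ) ^ 2 : ℝ) := by
      intro χ _
      have hd : ((charDegree (χ : G → ℂ) : ℕ) : ℂ) ≠ 0 := by exact_mod_cast (charDeg_pos χ).ne'
      rw [hW χ, ha χ, map_intCast]
      push_cast
      field_simp
    rw [Finset.sum_congr rfl h1, hT, ← hcR]
    push_cast
    rw [Finset.mul_sum, Finset.sum_add_distrib]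
  rw [show ∑ χ ∈ Finset.univ.filter (· ∈ principalBlock M G),
      (conj ((χ : G → ℂ) x) * (χ : G → ℂ) x) * W (1 : zpowers x →* ℂ) (χ : G → ℂ) = _ from hsum] at hEq
  have hEqR : (m : ℝ) * (((p : ℝ) - 1) * T + (c : ℝ)) = (c : ℝ) * (n : ℝ) := by
    exact_mod_cast hEq
  have hnmR : ((p : ℝ) - 1) * (m : ℝ) ≤ (n : ℝ) := by
    have h1 : (((p - 1) * m : ℕ) : ℝ) ≤ (n : ℝ) := by exact_mod_cast hnm
    rw [Nat.cast_mul, Nat.cast_sub hp.out.one_le] at h1
    simpa using h1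
  have hmR : (0 : ℝ) < (m : ℝ) := by exact_mod_cast hm
  have hcR9 : (9 : ℝ) ≤ (c : ℝ) := by exact_mod_cast hc9
  have hpR : (3 : ℝ) ≤ (p : ℝ) := by exact_mod_cast hp3
  have h1 : (c : ℝ) * ((p : ℝ) - 1) ≤ ((p : ℝ) - 1) * T + (c : ℝ) := by
    apply le_of_mul_le_mul_left _ hmR
    rw [hEqR]
    have : (c : ℝ) * (((p : ℝ) - 1) * (m : ℝ)) ≤ (c : ℝ) * (n : ℝ) :=
      mul_le_mul_of_nonneg_left hnmR (by linarith)
    linarith
  have h2 : ((p : ℝ) - 1) * T ≤ ((p : ℝ) - 1) * ((c : ℝ) / 4 + 3 / 4) :=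
    mul_le_mul_of_nonneg_left hTu (by linarith)
  nlinarith

end Master

end Cfsg.Agent.Lib.CycBS.EA
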