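import Mathlib
import Cfsg.Prelude.Def_Local
import Cfsg.Agent.Lib.CycBS.MOne7
import Cfsg.Agent.S4145
import Cfsg.Agent.Lib.PGroup.QDSylow6
import Cfsg.Agent.Lib.Fusion.ResidSeries4

/-!
# Reduction of the criterion to simple groups
-/

set_option autoImplicit false
set_option linter.unusedSectionVars false
set_option linter.style.haveILetI false

namespace Cfsg.Agent.Lib.CycBS

open Cfsg Subgroup

universe u

section Reduce

variable {G : Type u} [Group G] [Finite G] {p : ℕ} [hp : Fact p.Prime]

/-- Elements of order `p` lift over a normal `p'`-subgroup. -/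
lemma exists_lift_order (N : Subgroup G) [N.Normal] (hN : ¬ p ∣ Nat.card N) (xb : G ⧸ N) (hx : orderOf xb = p) :
    ∃ x : G, orderOf x = p ∧ (x : G ⧸ N) = xb := by
  obtain ⟨g, rfl⟩ := QuotientGroup.mk'_surjective N xb
  obtain ⟨k, hk1, s, hs⟩ := Cfsg.Agent.Lib.Fusion.ResidSeries.exists_pow_ppow (p := p) (QuotientGroup.mk' N) g
    ⟨1, by rw [pow_one]; exact hx⟩
  refine ⟨g ^ k, ?_, hk1⟩
  set x := g ^ k with hxd
  have hxb : orderOf (QuotientGroup.mk' N x) = p := by rw [hk1]; exact hx
  have hx1 : x ≠ 1 := by
    intro h
    rw [h, map_one, orderOf_one] at hxb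
    exact hp.out.one_lt.ne hxb
  have hxp : x ^ p ∈ N := by
    have h1 : QuotientGroup.mk' N (x ^ p) = 1 := by
      rw [map_pow, ← hxb, pow_orderOf_eq_one]
    exact (QuotientGroup.eq_one_iff _).1 h1
  have h2 : orderOf (x ^ p) ∣ Nat.card N := by
    have := orderOf_dvd_natCard (⟨x ^ p, hxp⟩ : N)
    rwa [Subgroup.orderOf_mk] at this
  have h3 : orderOf (x ^ p) ∣ p ^ s := by
    apply orderOf_dvd_of_pow_eq_one
    rw [← pow_mul, mul_comm, pow_mul, ← hs, pow_orderOf_eq_one, one_pow]
  have hcop : Nat.Coprime (p ^ s) (Nat.card N) :=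
    Nat.Coprime.pow_left s ((Nat.Prime.coprime_iff_not_dvd hp.out).2 hN)
  have h4 : orderOf (x ^ p) = 1 := Nat.Coprime.eq_one_of_dvd (Nat.Coprime.coprime_dvd_left h3 hcop) h2
  exact orderOf_eq_prime (orderOf_eq_one_iff.1 h4) hx1

/-- The hypothesis passes to subgroups. -/
lemma pairHyp_sub (h : PairHyp p G) (M : Subgroup G) : PairHyp p M := by
  intro x y hx hy
  have h1 := h (x : G) (y : G) (by rw [Subgroup.orderOf_coe]; exact hx) (by rw [Subgroup.orderOf_coe]; exact hy)
  have hle : closure ({x, y} : Set M) ≤ (closure ({(x : G), (y : G)} : Set G)).comap M.subtype := by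
    rw [closure_le]
    rintro z (rfl | rfl)
    · exact subset_closure (Or.inl rfl)
    · exact subset_closure (Or.inr rfl)
  let ι : closure ({x, y} : Set M) →* closure ({(x : G), (y : G)} : Set G) :=
    { toFun := fun a => ⟨a.1.1, hle a.2⟩
      map_one' := rfl
      map_mul' := fun _ _ => rfl }
  have hι : Function.Injective ι := by
    intro a b hab
    apply Subtype.ext
    apply Subtype.ext
    have h2 := congrArg Subtype.val hab
    exact h2
  exact Cfsg.Agent.Lib.Solvable.PSeries.isPSolvable_of_injective hι h1

/-- The hypothesis passes to quotients by normal `p'`-subgroups. -/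
lemma pairHyp_quot (h : PairHyp p G) (N : Subgroup G) [N.Normal] (hN : ¬ p ∣ Nat.card N) : PairHyp p (G ⧸ N) := by
  intro xb yb hx hy
  obtain ⟨x, hx', rfl⟩ := exists_lift_order N hN xb hx
  obtain ⟨y, hy', rfl⟩ := exists_lift_order N hN yb hy
  have h1 := h x y hx' hy'
  have h2 : closure ({(x : G ⧸ N), (y : G ⧸ N)} : Set (G ⧸ N)) =
      (closure ({x, y} : Set G)).map (QuotientGroup.mk' N) := by
    rw [MonoidHom.map_closure, Set.image_pair]
    rfl
  rw [h2]
  exact Cfsg.Agent.Lib.Solvable.PSeries.isPSolvable_of_surjective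
    ((QuotientGroup.mk' N).subgroupMap_surjective (closure ({x, y} : Set G))) h1

lemma cyc_quot (hcyc : ∀ P : Sylow p G, IsCyclic P) (N : Subgroup G) [N.Normal] (Q : Sylow p (G ⧸ N)) : IsCyclic Q := by
  obtain ⟨P, rfl⟩ := Sylow.mapSurjective_surjective (QuotientGroup.mk'_surjective N) p Q
  haveI := hcyc P
  have hsur : Function.Surjective ((QuotientGroup.mk' N).subgroupMap (P : Subgroup G)) :=
    MonoidHom.subgroupMap_surjective _ _
  exact isCyclic_of_surjective _ hsur

end Reduce

/-- **The reduction.** -/
theorem main_reduction {p : ℕ} [hp : Fact p.Prime] : ∀ (n : ℕ) (G : Type u) [Group G] [Finite G], Nat.card G = n →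
    (∀ P : Sylow p G, IsCyclic P) → PairHyp p G → IsPSolvable p G := by
  intro n
  induction n using Nat.strong_induction_on with
  | _ n ih =>
    intro G _ _ hn hcyc hH
    rcases subsingleton_or_nontrivial G with hG | hG
    · exact Cfsg.Agent.Lib.Coprime.PSolvable.isPSolvable_of_subsingleton
    by_cases hdvd : p ∣ Nat.card G
    swap
    · exact Cfsg.Agent.Lib.Fusion.ResidSeries.isPSolvable_of_coprime_card
        ((Nat.Prime.coprime_iff_not_dvd hp.out).2 hdvd).symm
    by_cases hsimple : IsSimpleGroup G
    · by_cases hna : ∃ a b : G, a * b ≠ b * a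
      · rcases eq_or_lt_of_le hp.out.two_le with h2 | h3
        · -- the prime two
          subst h2
          exfalso
          obtain ⟨P⟩ : Nonempty (Sylow 2 G) := inferInstance
          obtain ⟨P', N, hNn, hcomp⟩ := Cfsg.Agent.Lib.PGroup.QDSylow6.hasNormalPComplement_of_isCyclic P (hcyc P)
          have hcard := hcomp.card_mul_card
          rcases hsimple.eq_bot_or_eq_top_of_normal N hNn with h | h
          · rw [h, Subgroup.card_bot, one_mul] at hcard
            have htop : (P' : Subgroup G) = ⊤ := Subgroup.eq_top_of_card_eq _ hcard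
            obtain ⟨a, b, hab⟩ := hna
            apply hab
            haveI := hcyc P'
            have h3 := (IsCyclic.commGroup (α := (P' : Subgroup G))).mul_comm ⟨a, by rw [htop]; trivial⟩
              ⟨b, by rw [htop]; trivial⟩
            exact congrArg Subtype.val h3
          · rw [h, Subgroup.card_top] at hcard
            have h1 : Nat.card P' = 1 := by
              have h2 : 0 < Nat.card G := Nat.card_pos
              exact Nat.eq_of_mul_eq_mul_left h2 (by rw [hcard, mul_one])
            have h2 : (P' : Subgroup G).index = Nat.card G := by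
              have := (P' : Subgroup G).card_mul_index
              rw [h1, one_mul] at this
              exact this
            exact P'.not_dvd_index (by rw [h2]; exact hdvd)
        · exfalso
          cases nonempty_fintype G
          exact false_of_simple hna h3 hdvd hH hcyc
      · push_neg at hna
        letI : CommGroup G := { (inferInstance : Group G) with mul_comm := hna }
        exact Cfsg.Agent.Lib.Coprime.PSolvable.isPSolvable_of_isSolvable hp.out inferInstance
    · -- a proper nontrivial normal subgroup
      have hex : ∃ N : Subgroup G, N.Normal ∧ N ≠ ⊥ ∧ N ≠ ⊤ := by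
        by_contra hne
        push_neg at hne
        apply hsimple
        refine ⟨fun H hH => ?_⟩
        by_cases h1 : H = ⊥
        · exact Or.inl h1
        · exact Or.inr (hne H hH h1)
      obtain ⟨N, hNn, hNb, hNt⟩ := hex
      haveI := hNn
      have hNlt : Nat.card N < n := by
        rw [← hn]
        have h1 : Nat.card N ≤ Nat.card G := Subgroup.card_le_card_group N
        refine lt_of_le_of_ne h1 fun h2 => hNt (Subgroup.eq_top_of_card_eq _ h2)
      have hQlt : Nat.card (G ⧸ N) < n := by
        rw [← hn]
        have h1 : Nat.card N * Nat.card (G ⧸ N) = Nat.card G := (Subgroup.card_eq_card_quotient_mul_card_subgroup N ▸ mul_comm _ _ )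
        have h2 : 1 < Nat.card N := by
          have : Nontrivial N := (Subgroup.nontrivial_iff_ne_bot N).2 hNb
          exact Finite.one_lt_card
        have h3 : 0 < Nat.card (G ⧸ N) := Nat.card_pos
        rw [← h1]
        nlinarith
      by_cases hpN : p ∣ Nat.card N
      · by_cases hpI : p ∣ N.index
        · obtain ⟨P⟩ : Nonempty (Sylow p G) := inferInstance
          exact (Cfsg.Agent.S4145.result p P (hcyc P) N hpN hpI).2
        · have h1 : IsPSolvable p N := ih _ hNlt N rfl (cyc_sub hcyc N) (pairHyp_sub hH N)
          refine Cfsg.Agent.Lib.Solvable.PSeries.isPSolvable_of_normal_quotient N h1 ?_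
          apply Cfsg.Agent.Lib.Fusion.ResidSeries.isPSolvable_of_coprime_card
          have h2 : Nat.card (G ⧸ N) = N.index := rfl
          rw [h2]
          exact ((Nat.Prime.coprime_iff_not_dvd hp.out).2 hpI).symm
      · have h1 : IsPSolvable p (G ⧸ N) := ih _ hQlt (G ⧸ N) rfl (cyc_quot hcyc N) (pairHyp_quot hH N hpN)
        refine Cfsg.Agent.Lib.Solvable.PSeries.isPSolvable_of_normal_quotient N ?_ h1
        exact Cfsg.Agent.Lib.Fusion.ResidSeries.isPSolvable_of_coprime_card
          ((Nat.Prime.coprime_iff_not_dvd hp.out).2 hpN).symm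

end Cfsg.Agent.Lib.CycBS
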